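import Cfsg.Agent.Lib.Spor.CoTypeFive.Layer

/-!
Groups of Conway type: the centraliser of the layer of the centraliser of an element of order five is alternating of
degree five.
-/

set_option autoImplicit false
set_option maxRecDepth 100000
set_option linter.unusedSectionVars false

namespace Cfsg.Agent.Spor.CoT.Five

open Cfsg.Agent.Classical Cfsg.Agent.Lie Cfsg.Agent.Lie.J2Cert Cfsg.Spor Fin.NatCast

universe u

variable {G : Type u} [Group G] [Finite G] {z : G} {Q : Subgroup G} {F : Frame z Q} {b : G}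

/-- the centraliser of the fixed part of the extraspecial subgroup -/
noncomputable abbrev YR (Q : Subgroup G) (b : G) : Subgroup G :=
  Subgroup.centralizer ((Q ⊓ Subgroup.centralizer ({b} : Set G) : Subgroup G) : Set G)

theorem mem_R {q : G} (hq : q ∈ Q) (hqb : Commute b q) : q ∈ Q ⊓ Subgroup.centralizer ({b} : Set G) :=
  ⟨hq, Subgroup.mem_centralizer_singleton_iff.2 hqb.symm.eq⟩

theorem YR_comm {y r : G} (hy : y ∈ YR Q b) (hr : r ∈ Q) (hrb : Commute b r) : Commute y r :=
  (Subgroup.mem_centralizer_iff.1 hy r (mem_R hr hrb)).symm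

theorem YR_z (h : Hyp z Q) (P : Five F b) {y : G} (hy : y ∈ YR Q b) : Commute y z :=
  YR_comm hy (zQ h) P.comm

theorem π_YR (h : Hyp z Q) (P : Five F b) {y : G} (hy : y ∈ YR Q b) :
    F.π (cC (YR_z h P hy)) ∈ K' := fun i => by
  obtain ⟨r, hr, hrb, hv, -⟩ := exists_rw h P i
  rw [← hv, ← F.vec_conj _ r hr]
  exact congrArg F.vec (mul_inv_eq_iff_eq_mul.2 (YR_comm hy hr hrb))

theorem pow_four (h : Hyp z Q) (F : Frame z Q) {q : G} (hq : q ∈ Q) : q ^ 4 = 1 := by
  rw [show q ^ 4 = q * q * (q * q) by simp only [pow_succ, pow_zero, one_mul, mul_assoc]]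
  rcases F.sq_or q hq with e | e <;> rw [e]
  · rw [one_mul]
  · exact zz h

theorem card_YR (h : Hyp z Q) (P : Five F b) : 1920 ≤ Nat.card (YR Q b) := by
  classical
  set M := (K' : Subgroup Ga).comap F.π with hM
  have hidx : M.index = (K' : Subgroup Ga).index := Subgroup.index_comap_of_surjective _ F.π_surj
  have hcM : Nat.card M = 30720 := by
    have h1 := Subgroup.card_mul_index M
    have h2 := Subgroup.card_mul_index (K' : Subgroup Ga)
    rw [card_K', card_Ga] at h2
    rw [h.cardC, hidx] at h1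
    have : (K' : Subgroup Ga).index = 2903040 := by omega
    rw [this] at h1
    omega
  choose r hr hrb hrv using fun i : Fin 5 => (exists_rw h P i).imp fun r h => h
  replace hrv : ∀ i, F.vec (r i) = wpt i := fun i => (hrv i).1
  set Y' : Subgroup M := ((YR Q b).subgroupOf (Subgroup.centralizer ({z} : Set G))).subgroupOf M with hY'
  have hconj : ∀ (c : M) (i : Fin 5), ((c.1 : Subgroup.centralizer ({z} : Set G)) : G) * r i *
      ((c.1 : Subgroup.centralizer ({z} : Set G)) : G)⁻¹ = r i ∨ ((c.1 : Subgroup.centralizer ({z} : Set G)) : G) * r i *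
      ((c.1 : Subgroup.centralizer ({z} : Set G)) : G)⁻¹ = r i * z := fun c i =>
    vec_eq F (h.norm _ (mem_C.1 (c.1 : Subgroup.centralizer ({z} : Set G)).2) _ (hr i)) (hr i) h
      (by rw [F.vec_conj c.1 _ (hr i), hrv i, c.2 i])
  let f : M ⧸ Y' → Fin 4 → Bool := fun q i =>
    decide (((q.out.1 : Subgroup.centralizer ({z} : Set G)) : G) * r i.castSucc *
      ((q.out.1 : Subgroup.centralizer ({z} : Set G)) : G)⁻¹ = r i.castSucc)
  have hf : Function.Injective f := by
    intro q q' e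
    rw [← QuotientGroup.out_eq' q, ← QuotientGroup.out_eq' q', QuotientGroup.eq]
    set d := q.out⁻¹ * q'.out with hd
    have hdr : ∀ i : Fin 4, Commute ((d.1 : Subgroup.centralizer ({z} : Set G)) : G) (r i.castSucc) := fun i => by
      have ei : decide _ = decide _ := congrFun e i
      have key : ((q.out.1 : Subgroup.centralizer ({z} : Set G)) : G) * r i.castSucc *
          ((q.out.1 : Subgroup.centralizer ({z} : Set G)) : G)⁻¹ = ((q'.out.1 : Subgroup.centralizer ({z} : Set G)) : G) *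
            r i.castSucc * ((q'.out.1 : Subgroup.centralizer ({z} : Set G)) : G)⁻¹ := by
        rcases hconj q.out i.castSucc with a | a <;> rcases hconj q'.out i.castSucc with a' | a' <;>
          simp only [a, a', decide_eq_decide] at ei ⊢
        · exact (ei.1 trivial).symm
        · exact ei.2 trivial
      refine mul_inv_eq_iff_eq_mul.1 ?_
      rw [hd]
      show ((q.out.1 : Subgroup.centralizer ({z} : Set G)) : G)⁻¹ * (q'.out.1 : Subgroup.centralizer ({z} : Set G)) *
        r i.castSucc * (((q.out.1 : Subgroup.centralizer ({z} : Set G)) : G)⁻¹ *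
          (q'.out.1 : Subgroup.centralizer ({z} : Set G)))⁻¹ = r i.castSucc
      generalize ((q.out.1 : Subgroup.centralizer ({z} : Set G)) : G) = c at key ⊢
      generalize ((q'.out.1 : Subgroup.centralizer ({z} : Set G)) : G) = c' at key ⊢
      rw [show c⁻¹ * c' * r i.castSucc * (c⁻¹ * c')⁻¹ = c⁻¹ * (c' * r i.castSucc * c'⁻¹) * c by group, ← key]
      group
    rw [hY', Subgroup.mem_subgroupOf, Subgroup.mem_subgroupOf, Subgroup.mem_centralizer_iff]
    set c := ((d.1 : Subgroup.centralizer ({z} : Set G)) : G)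
    have hcz : Commute c z := mem_C.1 (d.1 : Subgroup.centralizer ({z} : Set G)).2
    let S : AddSubgroup V :=
      { carrier := {v | ∃ q ∈ Q, F.vec q = v ∧ Commute c q}
        zero_mem' := ⟨1, one_mem Q, vec_one F h, Commute.one_right _⟩
        add_mem' := by
          rintro _ _ ⟨a, ha, rfl, hca⟩ ⟨a', ha', rfl, hca'⟩
          exact ⟨a * a', mul_mem ha ha', F.vec_mul a ha a' ha', hca.mul_right hca'⟩
        neg_mem' := by
          rintro v ⟨a, ha, rfl, hca⟩
          exact ⟨a, ha, by rw [ZModModule.neg_eq_self], hca⟩ }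
    intro x hx
    have hxb : Commute b x := (Subgroup.mem_centralizer_singleton_iff.1 hx.2).symm
    obtain ⟨q1, hq1, hv1, hc1⟩ := fix_span ((memR h P hx.1).1 hxb) S
      (fun i => ⟨_, hr _, hrv _, hdr i⟩)
    rcases vec_eq F hx.1 hq1 h hv1.symm with e1 | e1
    · rw [e1]; exact hc1.symm.eq
    · rw [e1]; exact (hc1.mul_right hcz).symm.eq
  have hc := Subgroup.card_eq_card_quotient_mul_card_subgroup Y'
  rw [hcM] at hc
  have h16 : Nat.card (M ⧸ Y') ≤ 16 := (Nat.card_le_card_of_injective f hf).trans (by simp)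
  have hY : Nat.card Y' ≤ Nat.card (YR Q b) := Nat.card_le_card_of_injective
    (fun y : Y' => (⟨_, Subgroup.mem_subgroupOf.1 (Subgroup.mem_subgroupOf.1 y.2)⟩ : YR Q b))
    fun y y' e => Subtype.ext (Subtype.ext (Subtype.ext (congrArg Subtype.val e :)))
  by_contra hlt
  have : Nat.card (M ⧸ Y') * Nat.card Y' ≤ 16 * 1919 := Nat.mul_le_mul h16 (by omega)
  omega

theorem K_fix_InU {k : Ga} (hk : k ∈ K) {v : V} (hv : InU v) : k • v = v := by
  have e : k • v + v = 0 := orth10 (fun i => by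
    obtain ⟨j, hj⟩ := exists_wperm (mem_C0.1 (K_le hk)).inv_left i
    rw [pol_add_left, hv i, add_zero, ← smul_pol k⁻¹, inv_smul_smul, hj, hv j]) fun i => by
    rw [pol_add_left]
    conv_lhs => enter [1]; rw [← hk i, smul_pol]
    exact ZModModule.add_self _
  rw [eq_neg_of_add_eq_zero_left e, ZModModule.neg_eq_self]

theorem YR_odd (h : Hyp z Q) (P : Five F b) {d : Subgroup.centralizer ({z} : Set G)} (hdb : Commute (d : G) b)
    (hK : F.π d ∈ K) (h3 : (d : G) ^ 3 = 1) {y : G} (hy : y ∈ YR Q b) : Commute y (d : G) := by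
  set yC := cC (YR_z h P hy) with hyC
  have hcQ : ((yC * d * yC⁻¹ * d⁻¹ : Subgroup.centralizer ({z} : Set G)) : G) ∈ Q := (F.π_ker _).1 (by
    rw [map_mul, map_mul, map_mul, map_inv, map_inv, ← (K_K'_comm hK (π_YR h P hy)).eq, mul_inv_cancel_right,
      mul_inv_cancel])
  change y * (d : G) * y⁻¹ * (d : G)⁻¹ ∈ Q at hcQ
  set c := y * (d : G) * y⁻¹ * (d : G)⁻¹ with hc
  have hInU : InU (F.vec c) := fun i => by
    obtain ⟨r, hr, hrb, hv, -⟩ := exists_rw h P i
    rw [← hv, ← F.comm_iff c hcQ r hr]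
    have hdr : (d : G)⁻¹ * r * (d : G) ∈ Q := by
      simpa using h.norm _ (mem_C.1 d.2).inv_left r hr
    have hdrb : Commute b ((d : G)⁻¹ * r * d) := (hdb.symm.inv_right.mul_right hrb).mul_right hdb.symm
    have e := (YR_comm hy hdr hdrb).eq
    refine mul_inv_eq_iff_eq_mul.1 ?_
    have hy2 : y⁻¹ * r * y = r := by rw [mul_assoc, ← (YR_comm hy hr hrb).eq, inv_mul_cancel_left]
    calc c * r * c⁻¹ = y * (d : G) * (y⁻¹ * ((d : G)⁻¹ * r * d) * y) * (d : G)⁻¹ * y⁻¹ := by rw [hc]; group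
      _ = y * (d : G) * ((d : G)⁻¹ * r * d) * (d : G)⁻¹ * y⁻¹ := by
          rw [mul_assoc y⁻¹, ← e, inv_mul_cancel_left]
      _ = y * r * y⁻¹ := by group
      _ = r := by rw [(YR_comm hy hr hrb).eq, mul_inv_cancel_right]
  have hdc : Commute (d : G) c :=
    fix_comm F h (n := 3) ⟨1, rfl⟩ h3 hcQ (K_fix_InU hK hInU)
  have e : c ^ 3 = 1 := by
    have h1 : (c * (d : G)) ^ 3 = 1 := by
      rw [show c * (d : G) = y * (d : G) * y⁻¹ by rw [hc]; group, conj_pow, h3]; group
    rwa [hdc.symm.mul_pow, h3, mul_one] at h1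
  have hc1 : c = 1 := by
    have := pow_four h F hcQ
    rwa [pow_succ, e, one_mul] at this
  rw [hc, mul_inv_eq_one] at hc1
  exact mul_inv_eq_iff_eq_mul.1 hc1

variable {hbz : Commute b z} (E : Proj z b hbz)

include E in
theorem mem_lay_R (h : Hyp z Q) (P : Five F b) {r : G} (hr : r ∈ Q) (hrb : Commute b r) :
    (⟨r, Subgroup.mem_centralizer_singleton_iff.2 hrb.symm.eq⟩ : CB b) ∈ Lay b :=
  mem_lay E P.pow _ (n := 4) (pow_four h F hr) (by norm_num)

include E in
theorem YR_lay (h : Hyp z Q) (P : Five F b) {a : CB b} (ha : a ∈ Lay b) (haz : Commute (a : G) z)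
    {y : G} (hy : y ∈ YR Q b) : Commute y (a : G) := by
  set C := Subgroup.centralizer ({z} : Set G) with hC
  let S : Subgroup (alternatingGroup (Fin 5)) :=
    (((Lay b).map (CB b).subtype ⊓ Subgroup.centralizer (YR Q b : Set G)).comap
      ((Subgroup.centralizer ({z} : Set G)).subtype.comp
        ((Subgroup.centralizer ({b} : Set G)).subgroupOf (Subgroup.centralizer ({z} : Set G))).subtype)).map (psiD P)
  have htop : S = ⊤ := by
    refine Subgroup.map_injective (alternatingGroup (Fin 5)).subtype_injective ?_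
    rw [← MonoidHom.range_eq_map, Subgroup.range_subtype]
    refine le_antisymm (Subgroup.map_subtype_le _) ?_
    refine (Equiv.Perm.closure_three_cycles_eq_alternating (α := Fin 5)).symm.le.trans ((Subgroup.closure_le _).2 ?_)
    intro σ hσ
    obtain ⟨c, hcK, hcσ⟩ := psi_lift ⟨σ, hσ.mem_alternatingGroup⟩
    have hc3 : c ^ 3 = 1 := psi_inj_K (pow_mem hcK 3) (by
      rw [map_pow, hcσ]
      refine Subtype.ext ?_
      show σ ^ 3 = 1
      rw [← hσ.orderOf, pow_orderOf_eq_one])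
    have hc3' : (c : Ga) ^ 3 = 1 := congrArg Subtype.val hc3
    obtain ⟨d, hdπ, hdb⟩ := lift h P (mem_C0.1 c.2)
    have hd3 : ((d ^ 3 : Subgroup.centralizer ({z} : Set G)) : G) ∈ Q :=
      (F.π_ker _).1 (by rw [map_pow, hdπ, hc3'])
    have hd4 : F.π (d ^ 4) = (c : Ga) := by
      rw [map_pow, hdπ, pow_succ, hc3', one_mul]
    have h43 : ((d ^ 4 : Subgroup.centralizer ({z} : Set G)) : G) ^ 3 = 1 := by
      have := pow_four h F hd3
      rw [Subgroup.coe_pow, ← pow_mul] at this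
      rw [Subgroup.coe_pow, ← pow_mul]
      exact this
    have hb4 : Commute ((d ^ 4 : Subgroup.centralizer ({z} : Set G)) : G) b := by
      rw [Subgroup.coe_pow]; exact hdb.pow_left 4
    refine ⟨⟨σ, hσ.mem_alternatingGroup⟩, ⟨⟨d ^ 4, Subgroup.mem_subgroupOf.2
      (Subgroup.mem_centralizer_singleton_iff.2 hb4.eq)⟩, ⟨?_, ?_⟩, ?_⟩, rfl⟩
    · exact ⟨⟨_, Subgroup.mem_centralizer_singleton_iff.2 hb4.eq⟩,
        mem_lay E P.pow _ h43 (by norm_num), rfl⟩
    · exact Subgroup.mem_centralizer_iff.2 fun y' hy' =>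
        (YR_odd h P hb4 (by rw [hd4]; exact hcK) h43 hy').eq
    · rw [← hcσ]; exact congrArg psi (Subtype.ext hd4)
  let dA : (Subgroup.centralizer ({b} : Set G)).subgroupOf (Subgroup.centralizer ({z} : Set G)) :=
    ⟨cC haz, Subgroup.mem_subgroupOf.2 a.2⟩
  obtain ⟨d1, ⟨⟨l1, hl1, hl1'⟩, hd1⟩, he⟩ := (htop.symm.le (Subgroup.mem_top (psiD P dA)) : psiD P dA ∈ S)
  obtain ⟨r, hr, hrb, n, hn⟩ := (psiD_ker h P (d := d1⁻¹ * dA)).1 (by rw [map_mul, map_inv, he, inv_mul_cancel])
  change (l1 : G) = ((d1.1 : Subgroup.centralizer ({z} : Set G)) : G) at hl1'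
  change ((d1.1 : Subgroup.centralizer ({z} : Set G)) : G)⁻¹ * (a : G) = r * b ^ n at hn
  rw [← hl1'] at hn
  set rH : CB b := ⟨r, Subgroup.mem_centralizer_singleton_iff.2 hrb.symm.eq⟩
  have hbn : b ^ n = 1 := by
    have hm : rH⁻¹ * (l1⁻¹ * a) ∈ Lay b := mul_mem (inv_mem (mem_lay_R E h P hr hrb)) (mul_mem (inv_mem hl1) ha)
    have hv : ((rH⁻¹ * (l1⁻¹ * a) : CB b) : G) = b ^ n := by
      show r⁻¹ * ((l1 : G)⁻¹ * (a : G)) = b ^ n
      rw [hn, inv_mul_cancel_left]
    have h1 : E.σ ⟨_, hm⟩ = E.σ 1 := by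
      rw [map_one]
      exact (E.ker _).2 (hv ▸ pow_mem (Subgroup.mem_zpowers b) n)
    rw [← hv, show rH⁻¹ * (l1⁻¹ * a) = 1 from congrArg Subtype.val ((σ_bij E P.pow).1 h1)]
    rfl
  rw [hbn, mul_one, inv_mul_eq_iff_eq_mul] at hn
  rw [hn]
  have hm : Commute y (l1 : G) := by
    rw [hl1']
    exact Subgroup.mem_centralizer_iff.1 hd1 y hy
  exact hm.mul_right (YR_comm hy hr hrb)

include E in
theorem central (h : Hyp z Q) (P : Five F b) :
    Nonempty (↥(Subgroup.centralizer (((Lay b).map (CB b).subtype : Subgroup G) : Set G)) ≃* alternatingGroup (Fin 5)) := by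
  classical
  set X := Subgroup.centralizer (((Lay b).map (CB b).subtype : Subgroup G) : Set G) with hX
  have hbz' : Commute b z := P.comm
  have memX : ∀ {a : G}, a ∈ X → ∀ l : CB b, l ∈ Lay b → Commute a (l : G) := fun {a} ha l hl =>
    (Subgroup.mem_centralizer_iff.1 ha _ ⟨l, hl, rfl⟩).symm
  have hbX : b ∈ X := Subgroup.mem_centralizer_iff.2 (by
    rintro _ ⟨l, -, rfl⟩; exact (Subgroup.mem_centralizer_singleton_iff.1 l.2))
  have hXY : ∀ {a : G}, a ∈ X → a ∈ YR Q b := fun {a} ha => Subgroup.mem_centralizer_iff.2 fun r hr =>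
    (memX ha _ (mem_lay_R E h P hr.1 (Subgroup.mem_centralizer_singleton_iff.1 hr.2).symm)).symm.eq
  -- a conjugate of the central involution in the fixed part
  obtain ⟨x, hx, hxb, -, hxx, hx1, hxz⟩ := exists_rw h P 0
  obtain ⟨g, hgb, hg⟩ := exists_conj h P hx hxb hxx hx1 hxz
  have hzx : InQ z Q x z := (mem_symm F h (IsConj.refl z) ((inQ_z h).2 hx) hxx hx1 hxz).2
  have hz'Q : g⁻¹ * z * g ∈ Q := (inQ_iff h hg).1 hzx
  set z' := g⁻¹ * z * g with hz'd
  have hz'b : Commute b z' := (hgb.symm.inv_right.mul_right P.comm).mul_right hgb.symm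
  have hz'1 : z' ≠ 1 := fun e => z_ne h (by
    calc z = g * (g⁻¹ * z * g) * g⁻¹ := by group
      _ = 1 := by rw [← hz'd, e]; group)
  have hz'n : z' ≠ z := fun e => hxz (by
    rw [← hg]; nth_rewrite 2 [show z = g * (g⁻¹ * z * g) * g⁻¹ by group]; rw [← hz'd, e])
  obtain ⟨hs0, hsq⟩ := core_sing F h hz'Q (by
    rw [hz'd, show g⁻¹ * z * g * (g⁻¹ * z * g) = g⁻¹ * (z * z) * g by group, zz h]; group) hz'1 hz'n
  have hsf := (memR h P hz'Q).1 hz'b
  obtain ⟨j, hj⟩ := fix_dual hs0 hsf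
  obtain ⟨r, hr, hrb, hrv, hrr, -⟩ := exists_rw h P j
  set p := g * r * g⁻¹ with hpd
  have hpb : Commute b p := (hgb.symm.mul_right hrb).mul_right hgb.symm.inv_right
  set pH : CB b := ⟨p, Subgroup.mem_centralizer_singleton_iff.2 hpb.symm.eq⟩
  have hpL : pH ∈ Lay b := mem_lay E P.pow _ (n := 2) (by
    show p ^ 2 = 1
    rw [pow_two, hpd, conj_mul, hrr]; group) (by norm_num)
  have hpz : ¬ Commute p z := fun e => by
    have h1 := (Commute.conj_iff g⁻¹).2 e
    rw [hpd, show g⁻¹ * (g * r * g⁻¹) * g⁻¹⁻¹ = r by group, inv_inv] at h1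
    exact (noncomm_conj (F := F) h hr hz'Q (by rw [hrv, hj])).2 h1
  -- the bound on the stabiliser
  set W := YR Q b ⊓ Subgroup.centralizer ({p} : Set G) with hW
  have hWX : W ≤ X := by
    intro y hy
    let T : Subgroup (CB b) := ((Subgroup.centralizer ({y} : Set G)).subgroupOf (CB b)) ⊓ Lay b
    have hT : T.map E.e = ⊤ := by
      have hle : Cent ≤ T.map E.e := by
        intro c hc
        obtain ⟨⟨l, hl⟩, rfl⟩ := σ_surj E c
        exact ⟨l, ⟨Subgroup.mem_subgroupOf.2 (Subgroup.mem_centralizer_singleton_iff.2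
          (YR_lay E h P hl (E.back l hc) hy.1).symm.eq), hl⟩, rfl⟩
      have hco : IsCoatom Cent := by
        have hs : Cent = MulAction.stabilizer J2 (0 : Fin 315) := by ext a; exact mem_cent_iff a
        rw [hs]
        exact MulAction.IsPreprimitive.isCoatom_stabilizer_of_isPreprimitive J2 0
      refine hco.2 _ (lt_of_le_of_ne hle fun e => hpz ?_)
      refine E.back pH ?_
      rw [e]
      exact ⟨pH, ⟨Subgroup.mem_subgroupOf.2 (Subgroup.mem_centralizer_singleton_iff.2
        (Subgroup.mem_centralizer_singleton_iff.1 hy.2).symm), hpL⟩, rfl⟩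
    refine Subgroup.mem_centralizer_iff.2 ?_
    rintro _ ⟨l, hl, rfl⟩
    obtain ⟨l', ⟨hl'c, hl'L⟩, e⟩ := (hT.symm.le (Subgroup.mem_top (E.e l)) : E.e l ∈ T.map E.e)
    have : (⟨l', hl'L⟩ : Lay b) = ⟨l, hl⟩ := (σ_bij E P.pow).1 e
    rw [← show l' = l from congrArg Subtype.val this]
    exact Subgroup.mem_centralizer_singleton_iff.1 (Subgroup.mem_subgroupOf.1 hl'c)
  have hy' : ∀ y : YR Q b, Commute (g⁻¹ * (y : G) * g) z := fun y => by
    have := (Commute.conj_iff g⁻¹).2 (YR_comm y.2 hx hxb)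
    rwa [← hg, show g⁻¹ * (g * z * g⁻¹) * g⁻¹⁻¹ = z by group, inv_inv] at this
  set w := F.vec r with hwd
  have hwf : g0 • w = w := (memR h P hr).1 hrb
  let A := {v : V // qm v = qm w ∧ ∀ t : V, g0 • t = t → pol t (F.vec z') = 0 → pol t v = pol t w}
  have himg : ∀ y : YR Q b, qm (F.π (cC (hy' y)) • w) = qm w ∧
      ∀ t : V, g0 • t = t → pol t (F.vec z') = 0 → pol t (F.π (cC (hy' y)) • w) = pol t w := by
    intro y
    refine ⟨smul_qm _ _, fun t ht hts => ?_⟩
    obtain ⟨q, hq, rfl⟩ := F.vec_surj t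
    have hqb : Commute b q := (memR h P hq).2 ht
    have hgq : Commute b (g * q * g⁻¹) := (hgb.symm.mul_right hqb).mul_right hgb.symm.inv_right
    have hgqz : Commute (g * q * g⁻¹) z := by
      have := (Commute.conj_iff g).2 ((F.comm_iff q hq z' hz'Q).2 hts)
      rwa [show g * z' * g⁻¹ = z by rw [hz'd]; group] at this
    have hL : (⟨g * q * g⁻¹, Subgroup.mem_centralizer_singleton_iff.2 hgq.symm.eq⟩ : CB b) ∈ Lay b :=
      mem_lay E P.pow _ (n := 4) (by
        show (g * q * g⁻¹) ^ 4 = 1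
        rw [conj_pow, pow_four h F hq]; group) (by norm_num)
    have hcomm := (Commute.conj_iff g⁻¹).2 (YR_lay E h P hL hgqz y.2)
    rw [inv_inv, show g⁻¹ * (g * q * g⁻¹) * g = q by group] at hcomm
    conv_rhs => rw [← smul_pol (F.π (cC (hy' y)))]
    rw [← F.vec_conj (cC (hy' y)) q hq]
    rw [show ((cC (hy' y) : Subgroup.centralizer ({z} : Set G)) : G) * q *
      ((cC (hy' y) : Subgroup.centralizer ({z} : Set G)) : G)⁻¹ = q from mul_inv_eq_iff_eq_mul.2 hcomm]
  choose rep hrep hrepv using fun v => F.vec_surj v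
  let img : YR Q b → G := fun y => g⁻¹ * (y : G) * g * r * (g⁻¹ * (y : G) * g)⁻¹
  have himgv : ∀ y, img y ∈ Q ∧ F.vec (img y) = F.π (cC (hy' y)) • w := fun y =>
    ⟨h.norm _ (hy' y) r hr, F.vec_conj (cC (hy' y)) r hr⟩
  let Wy : Subgroup (YR Q b) := W.subgroupOf (YR Q b)
  let f : YR Q b ⧸ Wy → A × Bool := fun q =>
    (⟨_, himg q.out⟩, decide (img q.out = rep (F.π (cC (hy' q.out)) • w)))
  have hf : Function.Injective f := by
    intro q q' e
    have ev : F.π (cC (hy' q.out)) • w = F.π (cC (hy' q'.out)) • w :=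
      congrArg Subtype.val (congrArg Prod.fst e)
    have ed : decide (img q.out = rep (F.π (cC (hy' q.out)) • w)) =
        decide (img q'.out = rep (F.π (cC (hy' q'.out)) • w)) := congrArg Prod.snd e
    rw [← ev, decide_eq_decide] at ed
    have ei : img q.out = img q'.out := by
      obtain ⟨m1, v1⟩ := himgv q.out
      obtain ⟨m2, v2⟩ := himgv q'.out
      rcases vec_eq F m1 (hrep (F.π (cC (hy' q.out)) • w)) h (v1.trans (hrepv _).symm) with a | a
      · exact a.trans (ed.1 a).symm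
      rcases vec_eq F m2 (hrep (F.π (cC (hy' q.out)) • w)) h (v2.trans (ev.symm.trans (hrepv _).symm)) with a' | a'
      · exact (ed.2 a').trans a'.symm
      · exact a.trans a'.symm
    rw [← QuotientGroup.out_eq' q, ← QuotientGroup.out_eq' q', QuotientGroup.eq]
    refine Subgroup.mem_subgroupOf.2 ⟨(YR Q b).mul_mem ((YR Q b).inv_mem q.out.2) q'.out.2, Subgroup.mem_centralizer_singleton_iff.2 ?_⟩
    simp only [img] at ei
    show ((q.out : G))⁻¹ * (q'.out : G) * p = p * ((q.out : G)⁻¹ * (q'.out : G))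
    generalize (q.out : G) = a at ei ⊢
    generalize (q'.out : G) = a' at ei ⊢
    refine mul_inv_eq_iff_eq_mul.1 ?_
    rw [hpd]
    calc a⁻¹ * a' * (g * r * g⁻¹) * (a⁻¹ * a')⁻¹
        = a⁻¹ * g * (g⁻¹ * a' * g * r * (g⁻¹ * a' * g)⁻¹) * g⁻¹ * a := by group
      _ = a⁻¹ * g * (g⁻¹ * a * g * r * (g⁻¹ * a * g)⁻¹) * g⁻¹ * a := by rw [ei]
      _ = g * r * g⁻¹ := by group
  have h60 : 60 ≤ Nat.card X := by
    have hle := Nat.card_le_card_of_injective f hf
    rw [Nat.card_prod, Nat.card_eq_fintype_card (α := Bool), Fintype.card_bool] at hle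
    have hA : Nat.card A ≤ 16 := orb_bound hsf hwf hs0 hsq (by rw [pol_comm', hrv]; exact hj)
    have hc := Subgroup.card_eq_card_quotient_mul_card_subgroup Wy
    have hY := card_YR h P
    rw [Nat.card_congr (Subgroup.subgroupOfEquivOfLe (show W ≤ YR Q b from inf_le_left)).toEquiv] at hc
    refine le_trans ?_ (Nat.card_le_card_of_injective _ (Subgroup.inclusion_injective hWX))
    have : Nat.card (YR Q b ⧸ Wy) * Nat.card W ≤ 32 * Nat.card W := Nat.mul_le_mul (by omega) le_rfl
    omega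
  let χ : X →* K' :=
    { toFun := fun a => ⟨F.π (cC (YR_z h P (hXY a.2))), π_YR h P (hXY a.2)⟩
      map_one' := Subtype.ext (by
        show F.π _ = 1
        exact map_one F.π)
      map_mul' := fun a a' => Subtype.ext (by
        show F.π _ = F.π _ * F.π _
        rw [← map_mul]; rfl) }
  have hzX : z ∉ X := fun e => hpz (memX e pH hpL).symm
  have hχ : Function.Injective χ := (injective_iff_map_eq_one χ).2 fun ⟨a, ha⟩ e => by
    have haQ : a ∈ Q := (F.π_ker _).1 (congrArg Subtype.val e : F.π (cC (YR_z h P (hXY ha))) = 1)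
    refine Subtype.ext ?_
    show a = 1
    by_cases hv : F.vec a = 0
    · rcases (F.vec_zero a haQ).1 hv with e' | e'
      · exact e'
      · exact absurd (e' ▸ ha) hzX
    exfalso
    have hU : InU (F.vec a) := fun i => by
      obtain ⟨s, hs, hsb, hsv, -⟩ := exists_rw h P i
      rw [← hsv, ← F.comm_iff a haQ s hs]
      exact YR_comm (hXY ha) hs hsb
    obtain ⟨n, hn⟩ := u_move hv hU
    set a' := ((cC P.comm ^ n : Subgroup.centralizer ({z} : Set G)) : G) * a *
      ((cC P.comm ^ n : Subgroup.centralizer ({z} : Set G)) : G)⁻¹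
    have hbn : ((cC P.comm ^ n : Subgroup.centralizer ({z} : Set G)) : G) ∈ X := by
      rw [Subgroup.coe_pow]; exact pow_mem hbX n
    have ha' : a' ∈ X := mul_mem (mul_mem hbn ha) (inv_mem hbn)
    have ha'Q : a' ∈ Q := h.norm _ (mem_C.1 (cC P.comm ^ n).2) a haQ
    have hv' : F.vec a' = g0 ^ n • F.vec a := by rw [F.vec_conj _ a haQ, map_pow, P.img]
    have e1 := (noncomm_conj (F := F) h haQ ha'Q (by rw [hv', hn])).1
    exact hzX (by
      rw [show z = a'⁻¹ * (a * a' * a⁻¹) by rw [e1, inv_mul_cancel_left]]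
      exact mul_mem (inv_mem ha') (mul_mem (mul_mem ha ha') (inv_mem ha)))
  have hb : Function.Bijective χ := hχ.bijective_of_nat_card_le (by rw [card_K']; exact h60)
  obtain ⟨i⟩ := K'_iso
  exact ⟨(MulEquiv.ofBijective χ hb).trans i⟩

end Cfsg.Agent.Spor.CoT.Five
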