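import Cfsg.Agent.Lib.Spor.CoTypeFive.Points

/-!
The centraliser of an element of order five with four-dimensional fixed space, and the classification of such
elements.
-/

set_option autoImplicit false
set_option maxRecDepth 100000
set_option linter.unusedSectionVars false

namespace Cfsg.Agent.Spor.CoT.Five

open Chk Chk5 Five.Dat Cfsg.Agent.Classical Fin.NatCast Equiv

local notation "A5" => alternatingGroup (Fin 5)

/-- the centraliser of the element of order five -/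
noncomputable abbrev C0 : Subgroup Ga := Subgroup.centralizer ({g0} : Set Ga)

theorem mem_C0 {c : Ga} : c ∈ C0 ↔ Commute c g0 := Subgroup.mem_centralizer_singleton_iff

theorem exists_wperm {c : Ga} (hc : Commute c g0) (i : Fin 5) : ∃ j, c • wpt i = wpt j := by
  obtain ⟨-, -, hq, -, h0, -⟩ := form_row i
  refine singW (fun e => h0 ?_) (by rw [smul_qm, hq]) (by rw [← mul_smul, ← hc.eq, mul_smul, (acts i).1])
  rwa [smul_eq_iff_eq_inv_smul, smul_zero'] at e

theorem exists_shift {c : Ga} (hc : Commute c g0) : ∃ n : ℕ, ∀ k, c • upt k = g0 ^ n • upt k := by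
  obtain ⟨-, -, -, hq, -, h0, -⟩ := form_row 0
  obtain ⟨j, hj⟩ := singU (v := c • upt 0) (fun e => h0 (by rwa [smul_eq_iff_eq_inv_smul, smul_zero'] at e))
    (by rw [smul_qm, hq]) (fun i => by
      obtain ⟨l, hl⟩ := exists_wperm hc.inv_left i
      rw [← smul_pol c⁻¹, inv_smul_smul, hl, pol_comm']
      exact ((form_row l).2.2.2.2.2.2 0).2.2.1)
  refine ⟨j.val, fun k => ?_⟩
  rw [(g0_pow _ k).2, Fin.cast_val_eq_self]
  have key : ∀ n : ℕ, c • upt (n : Fin 5) = upt ((n : Fin 5) + j) := by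
    intro n
    induction n with
    | zero => rw [Nat.cast_zero, hj, zero_add]
    | succ n ih =>
      rw [Nat.cast_succ, ← (acts _).2.1, ← mul_smul, hc.eq, mul_smul, ih, (acts _).2.1, add_right_comm]
  have := key k.val
  rwa [Fin.cast_val_eq_self] at this

/-- the image of a point -/
noncomputable def wimg (c : C0) (i : Fin 5) : Fin 5 := (exists_wperm (mem_C0.1 c.2) i).choose

theorem wimg_spec (c : C0) (i : Fin 5) : (c : Ga) • wpt i = wpt (wimg c i) :=
  (exists_wperm (mem_C0.1 c.2) i).choose_spec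

theorem wimg_bij (c : C0) : Function.Bijective (wimg c) := by
  refine Finite.injective_iff_bijective.1 fun i j e => wpt_inj ((MulAction.injective (c : Ga)) ?_)
  show (c : Ga) • wpt i = (c : Ga) • wpt j
  rw [wimg_spec, wimg_spec, e]

/-- the action on the five points of the fixed space -/
noncomputable def psiP : C0 →* Perm (Fin 5) where
  toFun c := Equiv.ofBijective _ (wimg_bij c)
  map_one' := Equiv.ext fun i => wpt_inj ((wimg_spec 1 i).symm.trans (one_smul _ _))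
  map_mul' a b := Equiv.ext fun i => wpt_inj (by
    show wpt (wimg (a * b) i) = wpt (wimg a (wimg b i))
    rw [← wimg_spec, ← wimg_spec, ← wimg_spec, Subgroup.coe_mul, mul_smul])

theorem psiP_spec (c : C0) (i : Fin 5) : (c : Ga) • wpt i = wpt (psiP c i) := wimg_spec c i

theorem psiP_eq {c : C0} {σ : Perm (Fin 5)} (h : ∀ i, (c : Ga) • wpt i = wpt (σ i)) : psiP c = σ :=
  Equiv.ext fun i => wpt_inj ((psiP_spec c i).symm.trans (h i))

/-- trivial on the orthogonal -/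
noncomputable def K : Subgroup Ga where
  carrier := {k | ∀ i, k • upt i = upt i}
  one_mem' := fun _ => one_smul _ _
  mul_mem' := fun {a b} ha hb i => by rw [mul_smul, hb, ha]
  inv_mem' := fun {a} ha i => by rw [inv_smul_eq_iff, ha]

theorem K_le : K ≤ C0 := by
  intro k hk
  refine mem_C0.2 (ext10 (fun i => ?_) fun i => ?_)
  · rw [mul_smul, mul_smul, (acts i).1]
    refine (perpU_fix fun j => ?_).symm
    conv_lhs => rw [← hk j]
    rw [smul_pol]
    exact ((form_row i).2.2.2.2.2.2 j).2.2.1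
  · rw [mul_smul, mul_smul, (acts i).2.1, hk, hk, (acts i).2.1]

theorem g1_K : g1 ∈ K := fun i => (acts i).2.2.2.1

theorem ka_K : ka ∈ K := fun i => (acts i).2.2.2.2.2.1

/-- a five-cycle -/
def sigB : Perm (Fin 5) :=
  ⟨fun i => i + 1, fun i => i - 1, fun i => add_sub_cancel_right i 1, fun i => sub_add_cancel i 1⟩

theorem evens_ok : ∀ σ : Perm (Fin 5), Perm.sign σ = 1 →
    ∃ w ∈ evens, w.foldl (fun g b => g * if b then sigB else sigA) 1 = σ := by
  decide +kernel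

theorem K_lift_even {σ : Perm (Fin 5)} (hσ : σ ∈ A5) : ∃ k : Ga, k ∈ K ∧ ∀ i, k • wpt i = wpt (σ i) := by
  obtain ⟨w, -, rfl⟩ := evens_ok σ (Perm.mem_alternatingGroup.1 hσ)
  suffices ∀ (w : List Bool) (g : Perm (Fin 5)), (∃ k : Ga, k ∈ K ∧ ∀ i, k • wpt i = wpt (g i)) →
      ∃ k : Ga, k ∈ K ∧ ∀ i, k • wpt i = wpt ((w.foldl (fun g b => g * if b then sigB else sigA) g) i) from
    this w 1 ⟨1, one_mem _, fun i => one_smul _ _⟩
  intro w
  induction w with
  | nil => exact fun g hg => hg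
  | cons b w ih =>
    rintro g ⟨k, hk, hg⟩
    refine ih _ ?_
    cases b
    · exact ⟨k * ka, mul_mem hk ka_K, fun i => by rw [mul_smul, (acts i).2.2.2.2.1, hg]; rfl⟩
    · exact ⟨k * g1, mul_mem hk g1_K, fun i => by rw [mul_smul, (acts i).2.2.1, hg]; rfl⟩

theorem trim {c : C0} {n : ℕ} (hn : ∀ k, (c : Ga) • upt k = g0 ^ n • upt k) :
    (g0 ^ n)⁻¹ * (c : Ga) ∈ K ∧ ∀ i, ((g0 ^ n)⁻¹ * (c : Ga)) • wpt i = wpt (psiP c i) :=
  ⟨fun k => by rw [mul_smul, hn, inv_smul_smul], fun i => by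
    rw [mul_smul, psiP_spec, inv_smul_eq_iff, (g0_pow n _).1]⟩

theorem psiP_even (c : C0) : psiP c ∈ A5 := by
  by_contra hne
  have hs : Perm.sign (psiP c) = -1 := (Int.units_eq_one_or _).resolve_left fun e => hne (Perm.mem_alternatingGroup.2 e)
  have he : Equiv.swap (0 : Fin 5) 1 * (psiP c)⁻¹ ∈ A5 := by
    rw [Perm.mem_alternatingGroup, map_mul, map_inv, hs, Perm.sign_swap (by decide)]; rfl
  obtain ⟨k, hk, hkw⟩ := K_lift_even he
  obtain ⟨n, hn⟩ := exists_shift (mem_C0.1 c.2)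
  obtain ⟨hc', hcw⟩ := trim hn
  have hd1 : qm (wpt 0 + wpt 1) = 1 := by
    rw [qm_add, (form_row 0).2.2.1, (form_row 1).2.2.1, ((form_row 0).2.2.2.2.2.2 1).1]; rfl
  refine rf_not_mem hd1 ?_
  have e : (((k * ((g0 ^ n)⁻¹ * (c : Ga)) : Ga)) : OG) = OOmega.rf QF (wpt 0 + wpt 1) := by
    refine ext10O (fun i => ?_) fun i => ?_
    · rw [rf_act hd1, coe_smul, mul_smul, hcw, hkw, ← Perm.mul_apply, inv_mul_cancel_right, pol_add_left,
        ((form_row 0).2.2.2.2.2.2 i).1, ((form_row 1).2.2.2.2.2.2 i).1]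
      by_cases h0 : i = 0
      · subst h0
        rw [Equiv.swap_apply_left, if_pos rfl, if_neg (by decide), zero_add, one_smul, ← add_assoc,
          ZModModule.add_self, zero_add]
      by_cases h1 : i = 1
      · subst h1
        rw [Equiv.swap_apply_right, if_pos rfl, if_neg (by decide), add_zero, one_smul, add_comm (wpt 0),
          ← add_assoc, ZModModule.add_self, zero_add]
      rw [Equiv.swap_apply_of_ne_of_ne h0 h1, if_neg (Ne.symm h0), if_neg (Ne.symm h1), ZModModule.add_self,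
        zero_smul, add_zero]
    · rw [rf_act hd1, coe_smul, mul_smul, hc', hk, pol_add_left, ((form_row 0).2.2.2.2.2.2 i).2.2.1,
        ((form_row 1).2.2.2.2.2.2 i).2.2.1, add_zero, zero_smul, add_zero]
  exact e ▸ (k * ((g0 ^ n)⁻¹ * (c : Ga))).2

/-- the projection to the alternating group -/
noncomputable def psi : C0 →* A5 := psiP.codRestrict _ psiP_even

theorem psi_spec (c : C0) (i : Fin 5) : (c : Ga) • wpt i = wpt ((psi c : Perm (Fin 5)) i) := psiP_spec c i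

theorem psi_eq {c : C0} {σ : A5} (h : ∀ i, (c : Ga) • wpt i = wpt ((σ : Perm (Fin 5)) i)) : psi c = σ :=
  Subtype.ext (psiP_eq h)

theorem psi_lift (σ : A5) : ∃ c : C0, (c : Ga) ∈ K ∧ psi c = σ := by
  obtain ⟨k, hk, hkw⟩ := K_lift_even σ.2
  exact ⟨⟨k, K_le hk⟩, hk, psi_eq hkw⟩

theorem psi_ker {c : C0} (h : psi c = 1) : ∃ n : ℕ, (c : Ga) = g0 ^ n := by
  obtain ⟨n, hn⟩ := exists_shift (mem_C0.1 c.2)
  exact ⟨n, ext10 (fun i => by rw [psi_spec, h, (g0_pow n i).1]; rfl) hn⟩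

theorem psi_g0 : psi ⟨g0, mem_C0.2 (Commute.refl _)⟩ = 1 := psi_eq fun i => (acts i).1

theorem psi_inj_K {c : C0} (hc : (c : Ga) ∈ K) (h : psi c = 1) : c = 1 :=
  Subtype.ext (ext10 (fun i => by rw [psi_spec, h]; exact (one_smul _ _).symm)
    fun i => (hc i).trans (one_smul _ _).symm)

theorem sw_inv (i : Fin 5) : sw⁻¹ • upt i = wpt i ∧ sw⁻¹ • wpt i = upt i :=
  ⟨inv_smul_eq_iff.2 (acts i).2.2.2.2.2.2.1.symm, inv_smul_eq_iff.2 (acts i).2.2.2.2.2.2.2.symm⟩

/-- trivial on the fixed space -/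
noncomputable def K' : Subgroup Ga where
  carrier := {k | ∀ i, k • wpt i = wpt i}
  one_mem' := fun _ => one_smul _ _
  mul_mem' := fun {a b} ha hb i => by rw [mul_smul, hb, ha]
  inv_mem' := fun {a} ha i => by rw [inv_smul_eq_iff, ha]

theorem sw_K' {y : Ga} (hy : y ∈ K') : sw⁻¹ * y * sw ∈ K := fun i => by
  rw [mul_smul, mul_smul, (acts i).2.2.2.2.2.2.2, hy, (sw_inv i).2]

theorem sw_K {k : Ga} (hk : k ∈ K) : sw * k * sw⁻¹ ∈ K' := fun i => by
  rw [mul_smul, mul_smul, (sw_inv i).2, hk, (acts i).2.2.2.2.2.2.2]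

/-- the projection of the subgroup trivial on the fixed space -/
noncomputable def psi' : K' →* A5 where
  toFun y := psi ⟨sw⁻¹ * (y : Ga) * sw, K_le (sw_K' y.2)⟩
  map_one' := by
    rw [show (⟨sw⁻¹ * ((1 : K') : Ga) * sw, K_le (sw_K' (1 : K').2)⟩ : C0) = 1 from
      Subtype.ext (show sw⁻¹ * (1 : Ga) * sw = 1 by group)]
    exact map_one psi
  map_mul' a b := by
    rw [show (⟨sw⁻¹ * ((a * b : K') : Ga) * sw, K_le (sw_K' (a * b).2)⟩ : C0) =
      ⟨sw⁻¹ * (a : Ga) * sw, K_le (sw_K' a.2)⟩ * ⟨sw⁻¹ * (b : Ga) * sw, K_le (sw_K' b.2)⟩ from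
      Subtype.ext (show sw⁻¹ * ((a : Ga) * b) * sw = sw⁻¹ * (a : Ga) * sw * (sw⁻¹ * (b : Ga) * sw) by group)]
    exact map_mul psi _ _

theorem psi'_bij : Function.Bijective psi' := by
  refine ⟨(injective_iff_map_eq_one _).2 fun y hy => Subtype.ext ?_, fun σ => ?_⟩
  · have e : sw⁻¹ * (y : Ga) * sw = 1 := congrArg Subtype.val (psi_inj_K (c := ⟨_, K_le (sw_K' y.2)⟩) (sw_K' y.2) hy)
    calc (y : Ga) = sw * (sw⁻¹ * (y : Ga) * sw) * sw⁻¹ := by group
      _ = 1 := by rw [e]; group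
  · obtain ⟨c, hc, rfl⟩ := psi_lift σ
    refine ⟨⟨_, sw_K hc⟩, congrArg psi (Subtype.ext ?_)⟩
    show sw⁻¹ * (sw * (c : Ga) * sw⁻¹) * sw = c
    group

theorem K'_iso : Nonempty (K' ≃* A5) := ⟨MulEquiv.ofBijective psi' psi'_bij⟩

theorem card_K' : Nat.card K' = 60 := by
  rw [Nat.card_congr K'_iso.some.toEquiv, nat_card_alternatingGroup, Nat.card_fin]; rfl

theorem K_K'_comm {k y : Ga} (hk : k ∈ K) (hy : y ∈ K') : Commute k y := by
  have hC := mem_C0.1 (K_le hk)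
  have hC' := mem_C0.1 (K_le (sw_K' hy))
  refine ext10 (fun i => ?_) fun i => ?_
  · obtain ⟨j, hj⟩ := exists_wperm hC i
    rw [mul_smul, mul_smul, hy, hj, hy]
  · obtain ⟨j, hj⟩ := exists_wperm hC' i
    have e : y • upt i = upt j := by
      rw [show y = sw * (sw⁻¹ * y * sw) * sw⁻¹ by group, mul_smul, mul_smul, (sw_inv i).1, hj,
        (acts j).2.2.2.2.2.2.1]
    rw [mul_smul, mul_smul, hk, e, hk]

/-- the products of the two elements of order five -/
noncomputable def P25 : Subgroup Ga where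
  carrier := {x | ∃ a b : ℕ, x = g0 ^ a * g1 ^ b}
  one_mem' := ⟨0, 0, by simp⟩
  mul_mem' := by
    rintro _ _ ⟨a, b, rfl⟩ ⟨c, d, rfl⟩
    exact ⟨a + c, b + d, by rw [(g01_comm.symm.pow_pow b c).mul_mul_mul_comm, ← pow_add, ← pow_add]⟩
  inv_mem' := by
    rintro _ ⟨a, b, rfl⟩
    refine ⟨4 * a, 4 * b, inv_eq_of_mul_eq_one_right ?_⟩
    rw [(g01_comm.symm.pow_pow b (4 * a)).mul_mul_mul_comm, ← pow_add, ← pow_add,
      show a + 4 * a = 5 * a by ring, show b + 4 * b = 5 * b by ring, pow_mul, pow_mul, g0_five, g1_five, one_pow,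
      one_pow, mul_one]

theorem P25_mod (a b : ℕ) : g0 ^ a * g1 ^ b = g0 ^ (a % 5) * g1 ^ (b % 5) := by
  rw [← Nat.mod_add_div a 5, ← Nat.mod_add_div b 5]
  simp [pow_add, pow_mul, g0_five, g1_five]

theorem card_P25 : Nat.card P25 = 25 := by
  let f : Fin 5 × Fin 5 → P25 := fun p => ⟨g0 ^ p.1.val * g1 ^ p.2.val, p.1.val, p.2.val, rfl⟩
  have hb : Function.Bijective f := by
    refine ⟨fun p q e => ?_, fun ⟨x, a, b, hx⟩ => ⟨(⟨a % 5, Nat.mod_lt _ (by norm_num)⟩, ⟨b % 5, Nat.mod_lt _ (by norm_num)⟩),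
      Subtype.ext ((P25_mod a b).symm.trans hx.symm)⟩⟩
    have e' : g0 ^ p.1.val * g1 ^ p.2.val = g0 ^ q.1.val * g1 ^ q.2.val := congrArg Subtype.val e
    have h1 := congrArg (fun g : Ga => g • upt 0) e'
    have h2 := congrArg (fun g : Ga => g • wpt 0) e'
    simp only [mul_smul, (g1_pow _ _).1, (g1_pow _ _).2, (g0_pow _ _).1, (g0_pow _ _).2, zero_add,
      Fin.cast_val_eq_self] at h1 h2
    exact Prod.ext (upt_inj h1) (wpt_inj h2)
  rw [← Nat.card_congr (Equiv.ofBijective f hb)]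
  simp

theorem five_class {g : Ga} (hg : orderOf g = 5) {v : V} (h0 : v ≠ 0) (hv : g • v = v) :
    ∃ k : Ga, ∃ n : ℕ, k * g * k⁻¹ = g0 ^ n := by
  haveI : Fact (Nat.Prime 5) := ⟨by norm_num⟩
  haveI : Finite Ga := Nat.finite_of_card_ne_zero (by rw [card_Ga]; norm_num)
  obtain ⟨S, hS⟩ := (IsPGroup.of_card (p := 5) (n := 2) (G := P25) card_P25).exists_le_sylow
  have hPS : P25 = (S : Subgroup Ga) := by
    refine Subgroup.eq_of_le_of_card_ge hS ?_
    obtain ⟨m, hm⟩ := S.isPGroup'.exists_card_eq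
    rw [hm, card_P25]
    have hd : 5 ^ m ∣ 174182400 := by rw [← hm, ← card_Ga]; exact Subgroup.card_subgroup_dvd_card _
    by_contra hlt
    have h3 : (5 : ℕ) ^ 3 ∣ 174182400 := (pow_dvd_pow 5 (show 3 ≤ m by
      by_contra hm3
      have : 5 ^ m ≤ 5 ^ 2 := Nat.pow_le_pow_right (by norm_num) (by omega)
      omega)).trans hd
    norm_num at h3
  obtain ⟨T, hT⟩ := (IsPGroup.of_card (p := 5) (n := 1) (G := Subgroup.zpowers g)
    (by rw [Nat.card_zpowers, hg, pow_one])).exists_le_sylow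
  obtain ⟨k, hk⟩ := MulAction.exists_smul_eq Ga T S
  have hmem : k * g * k⁻¹ ∈ P25 := by rw [hPS, ← hk]; exact ⟨g, hT (Subgroup.mem_zpowers g), rfl⟩
  obtain ⟨a, b, e⟩ := hmem
  rw [P25_mod] at e
  have ha : a % 5 < 5 := Nat.mod_lt _ (by norm_num)
  have hb : b % 5 < 5 := Nat.mod_lt _ (by norm_num)
  have hfix : (g0 ^ (a % 5) * g1 ^ (b % 5)) • (k • v) = k • v := by
    rw [← e, ← mul_smul, inv_mul_cancel_right, mul_smul, hv]
  by_cases b0 : b % 5 = 0
  · exact ⟨k, a % 5, by rw [e, b0, pow_zero, mul_one]⟩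
  by_cases a0 : a % 5 = 0
  · refine ⟨sw * k, b % 5, ?_⟩
    rw [show sw * k * g * (sw * k)⁻¹ = sw * (k * g * k⁻¹) * sw⁻¹ by group, e, a0, pow_zero, one_mul]
    refine ext10 (fun i => ?_) fun i => ?_
    · rw [mul_smul, mul_smul, (sw_inv i).2, (g1_pow _ i).2, (acts i).2.2.2.2.2.2.2, (g0_pow _ i).1]
    · rw [mul_smul, mul_smul, (sw_inv i).1, (g1_pow _ i).1, (acts _).2.2.2.2.2.2.1, (g0_pow _ i).2]
  refine absurd (free_facts ha hb a0 b0 hfix) fun e' => h0 ?_
  rwa [smul_eq_iff_eq_inv_smul, smul_zero'] at e'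

end Cfsg.Agent.Spor.CoT.Five
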