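/-!
Data on the elements of order five with four-dimensional fixed space in the commutator subgroup of the isometry
group of a plus form in dimension eight over two elements.
-/

set_option autoImplicit false

namespace Cfsg.Agent.Spor.CoT.Five.Dat

/-- the five singular points of the fixed space -/
def wl : List Nat := [55, 16, 97, 13, 75]

/-- the five singular points of its orthogonal -/
def ul : List Nat := [8, 146, 180, 206, 224]

/-- the element of order five -/
def g0w : List Nat := [0, 0, 1, 1, 0, 2, 5, 3, 3, 2, 3, 3, 4, 3, 3, 3, 2, 5, 3, 4, 5, 3, 2, 2, 4, 3, 3, 3, 3, 3, 2, 3, 4]

/-- the element of order five moving the other five points -/
def g1w : List Nat := [0, 0, 1, 1, 1, 0, 1, 1, 3, 3, 3, 2, 5, 4, 5, 4, 5, 4, 3, 2, 5, 3, 4, 5, 3, 2, 2, 5, 4, 2, 2, 4, 3, 2, 3, 2, 3, 5, 2, 3, 5, 4, 3, 2]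

/-- a double transposition on the fixed space -/
def kaw : List Nat := [5, 2, 5, 5, 3, 2, 3, 2, 3, 2, 5, 3, 4, 5, 3, 2, 2, 4, 4, 4, 5, 5, 2, 4, 4]

/-- the exchange of the two spaces -/
def sww : List Nat := [1, 0, 1, 1, 3, 4, 2, 2, 3, 2, 4, 2, 5, 3, 3, 3, 2, 2, 3, 4, 2, 2, 5, 4, 4, 2, 3, 3, 3, 5, 5, 2, 3, 5, 4, 3, 2]

/-- the conjugator to the representative over the radical -/
def hcw : List Nat := [0, 1, 1, 4]

/-- words for the sixty even permutations -/
def evens : List (List Bool) :=
  [[], [false], [true], [false, true], [true, false], [true, true],
   [false, true, false], [false, true, true], [true, false, true], [true, true, false], [true, true, true], [false, true, false, true],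
   [false, true, true, false], [false, true, true, true], [true, false, true, false], [true, false, true, true], [true, true, false, true], [true, true, true, false],
   [true, true, true, true], [false, true, false, true, true], [false, true, true, false, true], [false, true, true, true, false], [true, false, true, true, false], [true, false, true, true, true],
   [true, true, false, true, false], [true, true, false, true, true], [true, true, true, false, true], [false, true, false, true, true, false], [false, true, false, true, true, true], [false, true, true, false, true, false],
   [false, true, true, false, true, true], [false, true, true, true, false, true], [true, false, true, true, true, false], [true, true, false, true, true, false], [true, true, false, true, true, true], [true, true, true, false, true, false],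
   [true, true, true, false, true, true], [false, true, false, true, true, true, false], [false, true, true, false, true, true, false], [false, true, true, false, true, true, true], [false, true, true, true, false, true, false], [false, true, true, true, false, true, true],
   [true, false, true, true, true, false, true], [true, true, false, true, true, true, false], [true, true, true, false, true, true, false], [true, true, true, false, true, true, true], [false, true, false, true, true, true, false, true], [false, true, true, false, true, true, true, false],
   [false, true, true, true, false, true, true, false], [false, true, true, true, false, true, true, true], [true, false, true, true, true, false, true, true], [true, true, false, true, true, true, false, true], [false, true, false, true, true, true, false, true, true], [false, true, true, false, true, true, true, false, true],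
   [true, false, true, true, true, false, true, true, false], [true, false, true, true, true, false, true, true, true], [true, true, false, true, true, true, false, true, true], [false, true, false, true, true, true, false, true, true, false], [false, true, false, true, true, true, false, true, true, true], [false, true, true, false, true, true, true, false, true, true]]

end Cfsg.Agent.Spor.CoT.Five.Dat
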