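import Cfsg.Agent.Lib.Spor.CoTypeDefs
import Cfsg.Agent.Lib.Spor.CoTypeFive.Data

/-!
Checks on the elements of order five with four-dimensional fixed space, on codes below 256.
-/

set_option autoImplicit false
set_option maxRecDepth 100000

namespace Cfsg.Agent.Spor.CoT.Five.Chk5

open Chk Five.Dat

/-- the action of a word on a code -/
def ap (w : List Nat) (c : Nat) : Nat := app (wp w) c

/-- a point of the fixed space -/
def wc (i : Nat) : Nat := wl.getD i 0

/-- a point of the orthogonal -/
def uc (i : Nat) : Nat := ul.getD i 0

/-- the words are words -/
def wordsOK : Bool := wlt g0w && wlt g1w && wlt kaw && wlt sww && wlt hcw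

/-- image of a point under the double transposition -/
def kaImg (i : Nat) : Nat := [1, 0, 3, 2, 4].getD i 0

/-- the action on the ten points -/
def actOK : Bool :=
  (List.range 5).all fun i =>
    Nat.beq (ap g0w (wc i)) (wc i) && Nat.beq (ap g0w (uc i)) (uc ((i + 1) % 5)) &&
      Nat.beq (ap g1w (wc i)) (wc ((i + 1) % 5)) && Nat.beq (ap g1w (uc i)) (uc i) &&
      Nat.beq (ap kaw (wc i)) (wc (kaImg i)) && Nat.beq (ap kaw (uc i)) (uc i) &&
      Nat.beq (ap sww (wc i)) (uc i) && Nat.beq (ap sww (uc i)) (wc i)

/-- the form on the ten points -/
def formOK : Bool :=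
  (List.range 5).all fun i => Nat.blt (wc i) 256 && Nat.blt (uc i) 256 && Nat.beq (qc (wc i)) 0 && Nat.beq (qc (uc i)) 0 &&
    !Nat.beq (wc i) 0 && !Nat.beq (uc i) 0 &&
    (List.range 5).all fun j =>
      Nat.beq (pc (wc i) (wc j)) (bif Nat.beq i j then 0 else 1) &&
      Nat.beq (pc (uc i) (uc j)) (bif Nat.beq i j then 0 else 1) && Nat.beq (pc (wc i) (uc j)) 0 &&
      (Nat.beq i j || (!Nat.beq (wc i) (wc j) && !Nat.beq (uc i) (uc j)))

/-- a combination of the first four points of the fixed space -/
def comb (m : Nat) : Nat := (List.range 4).foldl (fun r k => bif Nat.testBit m k then Nat.xor r (wc k) else r) 0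

/-- the fixed codes are combinations -/
def spanOK : Bool :=
  (List.range 256).all fun c => !Nat.beq (ap g0w c) c || (List.range 16).any fun m => Nat.beq (comb m) c

/-- singular fixed codes are the five points -/
def singWOK : Bool :=
  (List.range 256).all fun c => Nat.beq c 0 || Nat.beq (qc c) 1 || !Nat.beq (ap g0w c) c ||
    (List.range 5).any fun i => Nat.beq c (wc i)

/-- singular orthogonal codes are the other five points -/
def singUOK : Bool :=
  (List.range 256).all fun c => Nat.beq c 0 || Nat.beq (qc c) 1 ||
    ((List.range 5).any fun i => Nat.beq (pc c (wc i)) 1) || (List.range 5).any fun i => Nat.beq c (uc i)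

/-- only zero is orthogonal to all ten points -/
def orthOK : Bool :=
  (List.range 256).all fun c => Nat.beq c 0 ||
    (List.range 5).any fun i => Nat.beq (pc c (wc i)) 1 || Nat.beq (pc c (uc i)) 1

/-- fixed codes are not orthogonal to all five points -/
def dualOK : Bool :=
  (List.range 256).all fun c => Nat.beq c 0 || !Nat.beq (ap g0w c) c ||
    (List.range 5).any fun i => Nat.beq (pc (wc i) c) 1

/-- iterated images -/
def it (L : List Nat) : Nat → Nat → Nat
  | 0, c => c
  | n + 1, c => app L (it L n c)

/-- orthogonal codes are not orthogonal to all their images -/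
def moveOK : Bool :=
  let L := wp g0w
  (List.range 256).all fun c => Nat.beq c 0 || ((List.range 5).any fun i => Nat.beq (pc c (wc i)) 1) ||
    (List.range 5).any fun n => Nat.beq (pc c (it L n c)) 1

/-- the products of the two elements without fixed codes -/
def freeOK : Bool :=
  let L := wp g0w
  let M := wp g1w
  (List.range 5).all fun i => (List.range 5).all fun j => Nat.beq i 0 || Nat.beq j 0 ||
    (List.range 256).all fun c => Nat.beq c 0 || !Nat.beq (it L i (it M j c)) c

/-- fixed codes -/
def fixL : List Nat := let L := wp g0w; (List.range 256).filter fun c => Nat.beq (app L c) c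

/-- the bound on the orbit of an element not orthogonal to a point -/
def orbOK : Bool :=
  let F := fixL
  F.all fun s => Nat.beq s 0 || Nat.beq (qc s) 1 || F.all fun w => Nat.beq (pc s w) 0 ||
    let P := F.filter fun r => Nat.beq (pc r s) 0
    Nat.ble ((List.range 256).filter fun v => Nat.beq (qc v) (qc w) && P.all fun r => Nat.beq (pc r v) (pc r w)).length 16

/-- the double transposition is conjugate to the representative over the radical -/
def conjOK : Bool := mulL (wp hcw) (wp kaw) == mulL (radL 136) (wp hcw)

/-- the number of fixed codes of the representative giving involutions -/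
def countOK : Bool :=
  Nat.beq ((List.range 256).filter fun v =>
    Nat.beq (pc 1 v) 0 && Nat.beq (pc v 136) 0 && Nat.beq (qc v) (pc v 76)).length 24

theorem words_ok : wordsOK = true := by decide +kernel

theorem act_ok : actOK = true := by decide +kernel

theorem form_ok : formOK = true := by decide +kernel

theorem span_ok : spanOK = true := by decide +kernel

theorem singW_ok : singWOK = true := by decide +kernel

theorem singU_ok : singUOK = true := by decide +kernel

theorem orth_ok : orthOK = true := by decide +kernel

theorem dual_ok : dualOK = true := by decide +kernel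

theorem move_ok : moveOK = true := by decide +kernel

theorem free_ok : freeOK = true := by decide +kernel

theorem orb_ok : orbOK = true := by decide +kernel

theorem conj_ok : conjOK = true := by decide +kernel

theorem count_ok : countOK = true := by decide +kernel

end Cfsg.Agent.Spor.CoT.Five.Chk5
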