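import Cfsg.Agent.Lib.Spor.CoTypeFive.Quot
import Cfsg.Agent.Lib.Lie.Ico.Multiplier
import Cfsg.Agent.Lib.Solv.Component

/-!
Groups of Conway type: the layer of the centraliser of an element of order five is the Hall–Janko group.
-/

set_option autoImplicit false
set_option maxRecDepth 100000
set_option linter.unusedSectionVars false

namespace Cfsg.Agent.Spor.CoT.Five

open Cfsg.Agent.Classical Cfsg.Agent.Lie Cfsg.Agent.Lie.J2Cert Cfsg.Spor
open scoped commutatorElement

universe u

variable {G : Type u} [Group G] [Finite G] {z : G} {Q : Subgroup G} {F : Frame z Q} {b : G}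

/-- the projection to the Hall–Janko group -/
structure Proj (z b : G) (hbz : Commute b z) where
  /-- the projection -/
  e : Subgroup.centralizer ({b} : Set G) →* J2
  surj : Function.Surjective e
  ker : ∀ a, e a = 1 ↔ (a : G) ∈ Subgroup.zpowers b
  z_img : e ⟨z, Subgroup.mem_centralizer_singleton_iff.2 hbz.symm.eq⟩ = tJ 0
  back : ∀ a, e a ∈ Cent → Commute (a : G) z

theorem exists_proj (h : Hyp z Q) (P : Five F b)
    (hR : Cfsg.IsExtraspecial 2 ↥(Q ⊓ Subgroup.centralizer ({b} : Set G) : Subgroup G))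
    (hR32 : Nat.card ↥(Q ⊓ Subgroup.centralizer ({b} : Set G) : Subgroup G) = 32) :
    Nonempty (Proj z b P.comm) := by
  classical
  set N : Subgroup (Subgroup.centralizer ({b} : Set G)) :=
    (Subgroup.zpowers b).subgroupOf (Subgroup.centralizer ({b} : Set G)) with hN
  have hb : ∀ a : Subgroup.centralizer ({b} : Set G), Commute (a : G) b := fun a =>
    Subgroup.mem_centralizer_singleton_iff.1 a.2
  haveI hNn : N.Normal := ⟨fun n hn a => by
    obtain ⟨m, hm⟩ := Subgroup.mem_subgroupOf.1 hn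
    refine Subgroup.mem_subgroupOf.2 ⟨m, ?_⟩
    change b ^ m = (a : G) * n * (a : G)⁻¹
    rw [← show b ^ m = (n : G) from hm, ((hb a).zpow_right m).eq, mul_inv_cancel_right]⟩
  obtain ⟨E, hE⟩ := core h P (QuotientGroup.mk' N) (QuotientGroup.mk'_surjective N)
    (fun a => by rw [← MonoidHom.mem_ker, QuotientGroup.ker_mk', hN, Subgroup.mem_subgroupOf]) hR hR32
  set zH : Subgroup.centralizer ({b} : Set G) := ⟨z, Subgroup.mem_centralizer_singleton_iff.2 P.comm.symm.eq⟩
  obtain ⟨e0⟩ := J2Unique.isoJ2 hE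
  set y := e0 (QuotientGroup.mk' N zH) with hy
  have h1920 : Nat.card ↥(Subgroup.centralizer ({y} : Set J2)) = 1920 := by
    rw [← HJType.card_cent hE]
    refine Nat.card_congr (Equiv.subtypeEquiv e0.symm.toEquiv fun a => ?_)
    rw [Subgroup.mem_centralizer_singleton_iff, Subgroup.mem_centralizer_singleton_iff, hy,
      ← e0.symm.injective.eq_iff, map_mul, map_mul, MulEquiv.symm_apply_apply]
    exact Iff.rfl
  have hconj : IsConj (tJ 0) y := by
    obtain ⟨t, htz, htt, htQ⟩ := HJType.exists_outer J2Unique.j2_hyp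
    have hz1 : QuotientGroup.mk' N zH ≠ 1 := fun e => by
      have := hE.S.xt.ne
      exact this e
    have hzz : QuotientGroup.mk' N zH * QuotientGroup.mk' N zH = 1 := hE.S.xt.sq
    rcases HJType.two_classes J2Unique.j2_hyp htz htt htQ (x := y)
      (by rw [hy, ← map_mul, hzz, map_one]) (fun e => hz1 ((MulEquiv.map_eq_one_iff e0).1 e)) with e | e
    · exact e
    · exfalso
      obtain ⟨g, hg⟩ := isConj_iff.1 e
      have h240 := HJType.card_cent_two J2Unique.j2_hyp htz htt htQ
      have : Nat.card ↥(Subgroup.centralizer ({y} : Set J2)) = 240 := by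
        rw [← h240]
        refine Nat.card_congr (Equiv.subtypeEquiv (MulAut.conj g⁻¹).toEquiv fun a => ?_)
        rw [Subgroup.mem_centralizer_singleton_iff, Subgroup.mem_centralizer_singleton_iff,
          ← (MulAut.conj g⁻¹).injective.eq_iff, map_mul, map_mul,
          show MulAut.conj g⁻¹ y = t by rw [MulAut.conj_apply, ← hg]; group]
        exact Iff.rfl
      omega
  obtain ⟨u, hu⟩ := isConj_iff.1 hconj
  let e : Subgroup.centralizer ({b} : Set G) →* J2 :=
    ((MulAut.conj u⁻¹).toMonoidHom.comp e0.toMonoidHom).comp (QuotientGroup.mk' N)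
  have hek : ∀ a, e a = 1 ↔ (a : G) ∈ Subgroup.zpowers b := fun a => by
    show MulAut.conj u⁻¹ (e0 (QuotientGroup.mk' N a)) = 1 ↔ _
    rw [MulEquiv.map_eq_one_iff, MulEquiv.map_eq_one_iff, ← MonoidHom.mem_ker, QuotientGroup.ker_mk', hN,
      Subgroup.mem_subgroupOf]
  have hez : e zH = tJ 0 := by
    show MulAut.conj u⁻¹ y = tJ 0
    rw [MulAut.conj_apply, ← hu]; group
  refine ⟨⟨e, ((MulAut.conj u⁻¹).surjective.comp e0.surjective).comp (QuotientGroup.mk'_surjective N), hek, hez,
    fun a ha => ?_⟩⟩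
  have h1 : e (a * zH * a⁻¹ * zH⁻¹) = 1 := by
    rw [map_mul, map_mul, map_mul, map_inv, map_inv, hez,
      show e a * tJ 0 = tJ 0 * e a from Subgroup.mem_centralizer_singleton_iff.1 ha, mul_inv_cancel_right,
      mul_inv_cancel]
  obtain ⟨n, hn⟩ := zpow_cases P ((hek _).1 h1)
  change (a : G) * z * (a : G)⁻¹ * z⁻¹ = b ^ n at hn
  have hbn : b ^ n * b ^ n = 1 := by
    have hc : Commute z (b ^ n) := (P.comm.symm).pow_right n
    have hs : (a : G) * z * (a : G)⁻¹ = b ^ n * z := by rw [← hn]; group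
    calc b ^ n * b ^ n = b ^ n * b ^ n * (z * z) := by rw [zz h, mul_one]
      _ = b ^ n * z * (b ^ n * z) := by rw [hc.mul_mul_mul_comm]
      _ = (a : G) * (z * z) * (a : G)⁻¹ := by rw [← hs]; group
      _ = 1 := by rw [zz h]; group
  have := pow_sq P hbn
  rw [this, mul_inv_eq_one] at hn
  exact mul_inv_eq_iff_eq_mul.1 hn

variable {hbz : Commute b z} (E : Proj z b hbz)

/-- the centraliser of the element of order five -/
abbrev CB (b : G) : Subgroup G := Subgroup.centralizer ({b} : Set G)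

/-- the derived group of the centraliser -/
abbrev Lay (b : G) : Subgroup (Subgroup.centralizer ({b} : Set G)) :=
  commutator (Subgroup.centralizer ({b} : Set G))

/-- the projection on the derived group -/
def Proj.σ : Lay b →* J2 := E.e.comp (Lay b).subtype

theorem σ_surj : Function.Surjective E.σ := by
  rw [← MonoidHom.range_eq_top, Proj.σ, MonoidHom.range_comp, Subgroup.range_subtype]
  show Subgroup.map E.e (⁅(⊤ : Subgroup (CB b)), (⊤ : Subgroup (CB b))⁆ : Subgroup (CB b)) = ⊤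
  rw [Subgroup.map_commutator, Subgroup.map_top_of_surjective _ E.surj, ← commutator_def]
  exact J2Cert.perfect

include E in
theorem decomp (a : CB b) : ∃ l ∈ Lay b, ∃ c : (CB b), (∀ d : (CB b), Commute c d) ∧ (c : G) ∈ Subgroup.zpowers b ∧ a = l * c := by
  obtain ⟨l, hl⟩ := σ_surj E (E.e a)
  change E.e l = E.e a at hl
  have hker : ((((l : (CB b)))⁻¹ * a : (CB b)) : G) ∈ Subgroup.zpowers b :=
    (E.ker _).1 (by rw [map_mul, map_inv, hl, inv_mul_cancel])
  refine ⟨l, l.2, (l : (CB b))⁻¹ * a, fun d => Subtype.ext ?_, hker, (mul_inv_cancel_left _ _).symm⟩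
  obtain ⟨m, hm⟩ := hker
  change (((l : (CB b))⁻¹ * a : (CB b)) : G) * (d : G) = (d : G) * (((l : (CB b))⁻¹ * a : (CB b)) : G)
  rw [← show b ^ m = (((l : (CB b))⁻¹ * a : (CB b)) : G) from hm]
  have hd : Commute (d : G) b := Subgroup.mem_centralizer_singleton_iff.1 d.2
  exact (hd.symm.zpow_left m).eq

include E in
theorem lay_perfect : ⁅Lay b, Lay b⁆ = Lay b := by
  refine le_antisymm (Subgroup.commutator_le_self _) ?_
  show ⁅(⊤ : Subgroup (CB b)), ⊤⁆ ≤ _
  refine Subgroup.commutator_le.2 fun a _ a' _ => ?_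
  obtain ⟨l, hl, c, hc, -, rfl⟩ := decomp E a
  obtain ⟨l', hl', c', hc', -, rfl⟩ := decomp E a'
  have e : ⁅l * c, l' * c'⁆ = ⁅l, l'⁆ := by
    rw [commutatorElement_def, commutatorElement_def]
    calc l * c * (l' * c') * (l * c)⁻¹ * (l' * c')⁻¹
        = l * (c * l') * (c' * c⁻¹) * l⁻¹ * c'⁻¹ * l'⁻¹ := by group
      _ = l * l' * (c * c') * c⁻¹ * l⁻¹ * c'⁻¹ * l'⁻¹ := by rw [(hc l').eq]; group
      _ = l * l' * (c' * l⁻¹) * c'⁻¹ * l'⁻¹ := by rw [(hc c').eq]; group
      _ = l * l' * l⁻¹ * l'⁻¹ := by rw [(hc' l⁻¹).eq]; group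
  rw [e]
  exact Subgroup.commutator_mem_commutator hl hl'

theorem σ_bij (h5 : b ^ 5 = 1) : Function.Bijective E.σ := by
  refine ⟨(injective_iff_map_eq_one _).2 fun l hl => ?_, σ_surj E⟩
  have htop : commutator (Lay b) = ⊤ := by
    refine (Subgroup.map_injective (Lay b).subtype_injective) ?_
    rw [commutator_def, Subgroup.map_commutator, ← MonoidHom.range_eq_map, Subgroup.range_subtype]
    exact lay_perfect E
  have hst : Cfsg.IsStemExtension E.σ := by
    refine ⟨σ_surj E, fun k hk => Subgroup.mem_center_iff.2 fun d => Subtype.ext (Subtype.ext ?_), by rw [htop]; exact le_top⟩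
    obtain ⟨m, hm⟩ := (E.ker (k : (CB b))).1 hk
    show ((d : (CB b)) : G) * ((k : (CB b)) : G) = ((k : (CB b)) : G) * ((d : (CB b)) : G)
    rw [← show b ^ m = ((k : (CB b)) : G) from hm]
    have hd : Commute ((d : CB b) : G) b := Subgroup.mem_centralizer_singleton_iff.1 (d : CB b).2
    exact (hd.zpow_right m).eq
  obtain ⟨g, hg2, hgen⟩ := J2Cert.kernel_bound E.σ hst
  obtain ⟨m, hm⟩ := hgen ⟨l, hl⟩
  have h2 : l * l = 1 := by
    have e : (⟨l, hl⟩ : E.σ.ker) * ⟨l, hl⟩ = 1 := by
      rw [← show g ^ m = (⟨l, hl⟩ : E.σ.ker) from hm, ← zpow_add, ← two_mul, zpow_mul, zpow_two, ← sq, hg2, one_zpow]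
    exact congrArg Subtype.val e
  obtain ⟨k, hk⟩ := (E.ker (l : (CB b))).1 hl
  change b ^ k = ((l : (CB b)) : G) at hk
  have e2 : ((l : (CB b)) : G) * ((l : (CB b)) : G) = 1 := congrArg (fun a : Lay b => ((a : (CB b)) : G)) h2
  have e5 : ((l : (CB b)) : G) ^ 5 = 1 := by
    rw [← hk, ← zpow_natCast, ← zpow_mul, mul_comm, zpow_mul, zpow_natCast, h5, one_zpow]
  refine Subtype.ext (Subtype.ext ?_)
  calc ((l : (CB b)) : G) = ((l : (CB b)) : G) * (((l : (CB b)) : G) * ((l : (CB b)) : G)) * (((l : (CB b)) : G) * ((l : (CB b)) : G)) := by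
        rw [e2, mul_one, mul_one]
    _ = ((l : (CB b)) : G) ^ 5 := by simp only [pow_succ, pow_zero, one_mul]; group
    _ = 1 := e5

include E in
theorem mem_lay (h5 : b ^ 5 = 1) (a : (CB b)) {n : ℕ} (hn : (a : G) ^ n = 1) (hco : Nat.Coprime 5 n) : a ∈ Lay b := by
  obtain ⟨l, hl, c, hc, hcb, e⟩ := decomp E a
  have hc5 : c ^ 5 = 1 := by
    obtain ⟨m, hm⟩ := hcb
    refine Subtype.ext ?_
    rw [Subgroup.coe_pow, ← show b ^ m = (c : G) from hm, ← zpow_natCast, ← zpow_mul, mul_comm, zpow_mul,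
      zpow_natCast, h5, one_zpow]
    rfl
  have h5' : a ^ 5 ∈ Lay b := by
    rw [e, (hc l).symm.mul_pow, hc5, mul_one]; exact pow_mem hl 5
  have han : a ^ n = 1 := Subtype.ext (by rw [Subgroup.coe_pow, hn]; rfl)
  obtain ⟨m, hm⟩ := exists_pow_eq_self_of_coprime (x := a) (n := 5)
    (hco.coprime_dvd_right (orderOf_dvd_of_pow_eq_one han))
  rw [← hm]
  exact pow_mem h5' m

include E in
theorem layer_eq (h5 : b ^ 5 = 1) : Cfsg.layer (CB b) = Lay b := by
  haveI hsimp : IsSimpleGroup J2 := J2Cert.isSimple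
  have hLp : commutator (Lay b) = ⊤ := by
    refine (Subgroup.map_injective (Lay b).subtype_injective) ?_
    rw [commutator_def, Subgroup.map_commutator, ← MonoidHom.range_eq_map, Subgroup.range_subtype]
    exact lay_perfect E
  let i : Lay b ≃* J2 := MulEquiv.ofBijective E.σ (σ_bij E h5)
  haveI hsL : IsSimpleGroup (Lay b) := i.isSimpleGroup
  have hcen : Subgroup.center (Lay b) = ⊥ := by
    refine ((inferInstance : (Subgroup.center (Lay b)).Normal).eq_bot_or_eq_top).resolve_right fun e => ?_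
    obtain ⟨x, y, hxy⟩ := J2Cert.not_abelian
    have := Subgroup.mem_center_iff.1 (e ▸ Subgroup.mem_top (i.symm x)) (i.symm y)
    rw [← map_mul, ← map_mul] at this
    exact hxy (i.symm.injective this).symm
  have hqs : Cfsg.IsQuasisimple (Lay b) := by
    refine ⟨⟨hLp⟩, ?_⟩
    exact ((QuotientGroup.quotientMulEquivOfEq hcen).trans QuotientGroup.quotientBot).isSimpleGroup
  refine le_antisymm (sSup_le fun K hK => ?_) ?_
  · rw [← Solv.qs_self_commutator hK.2]
    exact Subgroup.commutator_mono le_top le_top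
  · exact Solv.component_le_layer ⟨(inferInstance : (Lay b).Normal).isSubnormal, hqs⟩

end Cfsg.Agent.Spor.CoT.Five
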