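import Cfsg.Agent.Lib.Spor.CoTypeMain
import Cfsg.Agent.Lib.Spor.CoTypeFive.Cent
import Cfsg.Agent.Lib.Solv.Coprime

/-!
Groups of Conway type: the centraliser of an element of order five inside the centraliser of the central involution.
-/

set_option autoImplicit false
set_option maxRecDepth 100000
set_option linter.unusedSectionVars false

namespace Cfsg.Agent.Spor.CoT.Five

open Cfsg.Agent.Classical Fin.NatCast Equiv

universe u

variable {G : Type u} [Group G] [Finite G] {z : G} {Q : Subgroup G}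

/-- change of coordinates -/
noncomputable def twist (F : Frame z Q) (k : Ga) : Frame z Q where
  vec a := k • F.vec a
  π := (MulAut.conj k).toMonoidHom.comp F.π
  vec_mul a ha b hb := by rw [F.vec_mul a ha b hb, smul_add']
  vec_surj v := by
    obtain ⟨a, ha, hv⟩ := F.vec_surj (k⁻¹ • v)
    exact ⟨a, ha, by rw [hv, smul_inv_smul]⟩
  vec_zero a ha := by rw [smul_eq_iff_eq_inv_smul, smul_zero', F.vec_zero a ha]
  sq_iff a ha := by rw [smul_qm, F.sq_iff a ha]
  sq_or := F.sq_or
  comm_iff a ha b hb := by rw [smul_pol, F.comm_iff a ha b hb]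
  comm_or := F.comm_or
  vec_conj c a ha := by
    show _ = (k * F.π c * k⁻¹) • (k • F.vec a)
    rw [F.vec_conj c a ha, mul_smul, inv_smul_smul, mul_smul]
  π_surj := (MulAut.conj k).surjective.comp F.π_surj
  π_ker c := by
    rw [← F.π_ker c]
    exact MulEquiv.map_eq_one_iff (MulAut.conj k)

/-- an element of order five over the chosen one -/
structure Five (F : Frame z Q) (b : G) : Prop where
  comm : Commute b z
  pow : b ^ 5 = 1
  img : F.π (cC comm) = g0

variable (F : Frame z Q)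

theorem exists_five (h : Hyp z Q) {b q : G} (hb : orderOf b = 5) (hbz : Commute b z) (hq : q ∈ Q)
    (hv : F.vec q ≠ 0) (hbq : Commute b q) :
    ∃ (F' : Frame z Q) (b' : G), Five F' b' ∧ Subgroup.zpowers b' = Subgroup.zpowers b := by
  haveI : Fact (Nat.Prime 5) := ⟨by norm_num⟩
  have hb5 : b ^ 5 = 1 := by rw [← hb, pow_orderOf_eq_one]
  have hC5 : (cC hbz) ^ 5 = 1 := Subtype.ext hb5
  have hne : F.π (cC hbz) ≠ 1 := fun e => by
    have hd := orderOf_dvd_natCard (⟨b, (F.π_ker _).1 e⟩ : Q)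
    rw [← Subgroup.orderOf_coe, show ((⟨b, (F.π_ker _).1 e⟩ : Q) : G) = b from rfl, hb, h.card] at hd
    norm_num at hd
  have ho : orderOf (F.π (cC hbz)) = 5 := orderOf_eq_prime (by rw [← map_pow, hC5, map_one]) hne
  have hfix : F.π (cC hbz) • F.vec q = F.vec q := by
    rw [← F.vec_conj _ q hq]
    exact congrArg F.vec (mul_inv_eq_iff_eq_mul.2 hbq)
  obtain ⟨k, n, hk⟩ := five_class ho hv hfix
  have hn : n % 5 ≠ 0 := fun e => hne (by
    rw [← Nat.mod_add_div n 5, e, zero_add, pow_mul, g0_five, one_pow, conj_eq_one_iff] at hk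
    exact hk)
  have h4 : n ^ 4 % 5 = 1 := by
    rw [Nat.pow_mod]
    have hlt : n % 5 < 5 := Nat.mod_lt _ (by norm_num)
    generalize n % 5 = m at hn hlt
    interval_cases m <;> first | omega | rfl
  refine ⟨twist F k, b ^ n ^ 3, ⟨hbz.pow_left _, by rw [← pow_mul, mul_comm, pow_mul, hb5, one_pow], ?_⟩, ?_⟩
  · show k * F.π (cC (hbz.pow_left _)) * k⁻¹ = g0
    rw [show cC (hbz.pow_left (n ^ 3)) = cC hbz ^ n ^ 3 from Subtype.ext (by rw [Subgroup.coe_pow]; rfl), map_pow,
      ← conj_pow, hk, ← pow_mul, ← pow_succ', show n ^ 4 = 1 + 5 * (n ^ 4 / 5) by omega, pow_add, pow_mul, g0_five,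
      one_pow, mul_one, pow_one]
  · refine le_antisymm (Subgroup.zpowers_le.2 (pow_mem (Subgroup.mem_zpowers b) _)) (Subgroup.zpowers_le.2 ?_)
    refine ⟨(n : ℤ), ?_⟩
    show (b ^ n ^ 3) ^ (n : ℤ) = b
    rw [zpow_natCast, ← pow_mul, ← pow_succ, show n ^ 4 = 1 + 5 * (n ^ 4 / 5) by omega, pow_add, pow_mul, hb5,
      one_pow, mul_one, pow_one]

include F

theorem fix_comm (h : Hyp z Q) {c : Subgroup.centralizer ({z} : Set G)} {n : ℕ} (hn : Odd n) (hc : (c : G) ^ n = 1)
    {q : G} (hq : q ∈ Q) (hf : F.π c • F.vec q = F.vec q) : Commute (c : G) q := by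
  rcases vec_eq F (h.norm c (mem_C.1 c.2) q hq) hq h ((F.vec_conj c q hq).trans hf) with e | e
  · exact mul_inv_eq_iff_eq_mul.1 e
  exfalso
  have key : ∀ k : ℕ, (c : G) ^ k * q * ((c : G) ^ k)⁻¹ = q * z ^ k := by
    intro k
    induction k with
    | zero => simp
    | succ k ih =>
      rw [show (c : G) ^ (k + 1) * q * ((c : G) ^ (k + 1))⁻¹ = c * ((c : G) ^ k * q * ((c : G) ^ k)⁻¹) * (c : G)⁻¹ by
        rw [pow_succ']; group, ih, ← conj_mul, e, (mem_C.1 c.2).pow_right k |>.eq, mul_inv_cancel_right, mul_assoc,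
        ← pow_succ']
  have := key n
  obtain ⟨j, rfl⟩ := hn
  rw [hc, one_mul, inv_one, mul_one, left_eq_mul, pow_succ, pow_mul, pow_two, zz h, one_pow, one_mul] at this
  exact z_ne h this

variable {F} {b : G}

theorem Five.order (P : Five F b) : orderOf b = 5 := by
  haveI : Fact (Nat.Prime 5) := ⟨by norm_num⟩
  refine orderOf_eq_prime P.pow fun e => ?_
  have h1 : F.π (cC P.comm) = 1 := by rw [show cC P.comm = 1 from Subtype.ext e, map_one]
  have := g0_order
  rw [← P.img, h1, orderOf_one] at this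
  omega

theorem Five.not_mem (P : Five F b) (n : ℕ) (hn : n % 5 ≠ 0) : b ^ n ∉ Q := fun e => by
  have h1 := (F.π_ker (cC P.comm ^ n)).2 (by rwa [Subgroup.coe_pow])
  rw [map_pow, P.img, ← orderOf_dvd_iff_pow_eq_one, g0_order] at h1
  exact hn (Nat.mod_eq_zero_of_dvd h1 |> fun e => by omega)

theorem memR (h : Hyp z Q) (P : Five F b) {q : G} (hq : q ∈ Q) : Commute b q ↔ g0 • F.vec q = F.vec q := by
  constructor
  · intro hc
    rw [← P.img, ← F.vec_conj _ q hq]
    exact congrArg F.vec (mul_inv_eq_iff_eq_mul.2 hc)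
  · intro e
    exact fix_comm F h (c := cC P.comm) (n := 5) ⟨2, rfl⟩ P.pow hq (by rw [P.img]; exact e)

theorem exists_rw (h : Hyp z Q) (P : Five F b) (i : Fin 5) :
    ∃ r ∈ Q, Commute b r ∧ F.vec r = wpt i ∧ r * r = 1 ∧ r ≠ 1 ∧ r ≠ z := by
  obtain ⟨r, hr, hv⟩ := F.vec_surj (wpt i)
  obtain ⟨-, -, hq, -, h0, -⟩ := form_row i
  obtain ⟨n1, nz⟩ : r ≠ 1 ∧ r ≠ z := not_or.1 fun e => h0 (hv ▸ (F.vec_zero r hr).2 e)
  exact ⟨r, hr, (memR h P hr).2 (by rw [hv, (acts i).1]), hv, (F.sq_iff r hr).2 (by rw [hv]; exact hq), n1, nz⟩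

theorem pi_comm (P : Five F b) {d : Subgroup.centralizer ({z} : Set G)} (hd : Commute (d : G) b) :
    Commute (F.π d) g0 := by
  rw [← P.img]
  exact (show Commute d (cC P.comm) from Subtype.ext hd).map F.π

theorem lift (h : Hyp z Q) (P : Five F b) {g : Ga} (hg : Commute g g0) :
    ∃ d : Subgroup.centralizer ({z} : Set G), F.π d = g ∧ Commute (d : G) b := by
  set C := Subgroup.centralizer ({z} : Set G)
  set bC : C := cC P.comm with hbC
  obtain ⟨x, rfl⟩ := F.π_surj g
  have hn : Subgroup.zpowers bC ≤ Subgroup.normalizer ((Q.subgroupOf C : Subgroup C) : Set C) := by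
    refine fun a _ => Subgroup.mem_normalizer_iff.2 fun q => ⟨fun hq => h.norm a (mem_C.1 a.2) q hq, fun hq => ?_⟩
    have := h.norm (a : G)⁻¹ (mem_C.1 a.2).inv_left _ (Subgroup.mem_subgroupOf.1 hq)
    rw [Subgroup.mem_subgroupOf]
    simpa [mul_assoc] using this
  have hoC : orderOf bC = 5 := by rw [← Subgroup.orderOf_coe]; exact P.order
  haveI : IsMulCommutative (Subgroup.zpowers bC) := inferInstance
  have hco : (Nat.card (Subgroup.zpowers bC)).Coprime (Nat.card (Q.subgroupOf C)) := by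
    rw [Nat.card_zpowers, hoC, Nat.card_congr (Subgroup.subgroupOfEquivOfLe h.le).toEquiv, h.card]; norm_num
  obtain ⟨d, hd, hN⟩ := Solv.exists_fixed_in_coset (Subgroup.zpowers bC) (Q.subgroupOf C) hn hco
    (Or.inl inferInstance) (x := x) (fun a ha => by
      rw [Subgroup.mem_subgroupOf, ← F.π_ker]
      obtain ⟨m, rfl⟩ := ha
      show F.π (x⁻¹ * (bC ^ m * x * (bC ^ m)⁻¹)) = 1
      rw [map_mul, map_mul, map_mul, map_inv, map_inv, map_zpow, P.img, (hg.symm.zpow_left m).eq,
        mul_inv_cancel_right, inv_mul_cancel])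
  refine ⟨x * d, by rw [map_mul, (F.π_ker d).2 hd, mul_one], ?_⟩
  obtain ⟨j, hj⟩ := mem_powers_iff_mem_zpowers.2 ((Subgroup.mem_normalizer_iff.1 hN bC).1 (Subgroup.mem_zpowers bC))
  change bC ^ j = x * d * bC * (x * d)⁻¹ at hj
  have e := congrArg F.π hj
  rw [map_pow, map_mul, map_mul, map_mul, map_inv, map_mul, (F.π_ker d).2 hd, mul_one, P.img, hg.eq,
    mul_inv_cancel_right] at e
  have e' : bC ^ j = bC := by
    nth_rewrite 2 [← pow_one bC]
    rw [pow_eq_pow_iff_modEq, hoC, ← g0_order, ← pow_eq_pow_iff_modEq, pow_one]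
    exact e
  rw [e'] at hj
  exact congrArg Subtype.val (eq_mul_inv_iff_mul_eq.1 hj).symm

/-- the projection of an element commuting with the element of order five -/
noncomputable def psiD (P : Five F b) :
    (Subgroup.centralizer ({b} : Set G)).subgroupOf (Subgroup.centralizer ({z} : Set G)) →* alternatingGroup (Fin 5) :=
  psi.comp ((F.π.comp (Subgroup.subtype _)).codRestrict C0 fun d =>
    mem_C0.2 (pi_comm P (Subgroup.mem_centralizer_singleton_iff.1 (Subgroup.mem_subgroupOf.1 d.2))))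

theorem psiD_spec (P : Five F b)
    (d : (Subgroup.centralizer ({b} : Set G)).subgroupOf (Subgroup.centralizer ({z} : Set G))) (i : Fin 5) :
    F.π d.1 • wpt i = wpt ((psiD P d : Perm (Fin 5)) i) :=
  psi_spec ⟨F.π d.1, _⟩ i

theorem psiD_ker (h : Hyp z Q) (P : Five F b)
    {d : (Subgroup.centralizer ({b} : Set G)).subgroupOf (Subgroup.centralizer ({z} : Set G))} :
    psiD P d = 1 ↔ ∃ r ∈ Q, Commute b r ∧ ∃ n : ℕ, ((d.1 : Subgroup.centralizer ({z} : Set G)) : G) = r * b ^ n := by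
  have hdb : Commute ((d.1 : Subgroup.centralizer ({z} : Set G)) : G) b :=
    Subgroup.mem_centralizer_singleton_iff.1 (Subgroup.mem_subgroupOf.1 d.2)
  constructor
  · intro e
    obtain ⟨n, hn⟩ := psi_ker e
    change F.π d.1 = g0 ^ n at hn
    have e' : ((d.1 * (cC P.comm ^ n)⁻¹ : Subgroup.centralizer ({z} : Set G)) : G) ∈ Q := (F.π_ker _).1 (by
      rw [map_mul, map_inv, map_pow, P.img, hn, mul_inv_cancel])
    refine ⟨(d.1 : G) * (b ^ n)⁻¹, ?_, ?_, n, by group⟩
    · rw [Subgroup.coe_mul, Subgroup.coe_inv, Subgroup.coe_pow] at e'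
      exact e'
    · exact (hdb.symm).mul_right ((Commute.refl b).pow_right n).inv_right
  · rintro ⟨r, hr, -, n, e⟩
    refine psi_eq fun i => ?_
    show F.π d.1 • wpt i = wpt i
    rw [show d.1 = cC (Qz h hr) * cC P.comm ^ n from Subtype.ext (by
      rw [e, Subgroup.coe_mul, Subgroup.coe_pow]; rfl), map_mul, map_pow, π_Q F h hr, P.img, one_mul]
    exact (g0_pow n i).1

theorem psiD_surj (h : Hyp z Q) (P : Five F b) : Function.Surjective (psiD P) := fun σ => by
  obtain ⟨c, -, rfl⟩ := psi_lift σ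
  obtain ⟨d, hd, hdb⟩ := lift h P (mem_C0.1 c.2)
  exact ⟨⟨d, Subgroup.mem_subgroupOf.2 (Subgroup.mem_centralizer_singleton_iff.2 hdb)⟩, congrArg psi (Subtype.ext hd)⟩

theorem self_cent (h : Hyp z Q) (P : Five F b)
    {d : (Subgroup.centralizer ({b} : Set G)).subgroupOf (Subgroup.centralizer ({z} : Set G))}
    (hd : ∀ r ∈ Q, Commute b r → Commute ((d.1 : Subgroup.centralizer ({z} : Set G)) : G) r) : psiD P d = 1 := by
  refine psi_eq fun i => ?_
  obtain ⟨r, hr, hrb, hv, -⟩ := exists_rw h P i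
  show F.π d.1 • wpt i = wpt i
  rw [← hv, ← F.vec_conj d.1 r hr]
  exact congrArg F.vec (mul_inv_eq_iff_eq_mul.2 (hd r hr hrb))

theorem exists_involution (h : Hyp z Q) (P : Five F b) :
    ∃ t : Subgroup.centralizer ({z} : Set G), Commute (t : G) b ∧ (t : G) * t = 1 ∧ (t : G) ≠ 1 ∧ ¬ IsConj z (t : G) := by
  classical
  obtain ⟨x, B⟩ := exists_base F h
  obtain ⟨-, b0, -, hb⟩ := exists_reps F h B
  set C := Subgroup.centralizer ({z} : Set G) with hCdef
  set bb : C := cC (hb.comm F h B).2 with hbb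
  have hπb : F.π bb = sC := hb.π F h B
  have hbsq : bb * bb = 1 := Subtype.ext (b0_sq F h B hb)
  obtain ⟨c, hcπ⟩ := F.π_surj hc
  set b' : C := c * cC P.comm * c⁻¹ with hb'
  have hb'5 : b' ^ 5 = 1 := by
    rw [hb', conj_pow, show cC P.comm ^ 5 = 1 from Subtype.ext P.pow]; group
  have hcom : Commute (F.π b') sC := by
    rw [hb', map_mul, map_mul, map_inv, P.img, hcπ, ← conj_sC]
    exact (Commute.conj_iff hc).2 (mem_C0.1 (K_le ka_K)).symm
  let T := {t : C // F.π t = sC ∧ t * t = 1}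
  letI : MulAction (Subgroup.zpowers b') T :=
    { smul := fun a t => ⟨(a : C) * t.1 * (a : C)⁻¹, by
        obtain ⟨m, hm⟩ := a.2
        rw [map_mul, map_mul, map_inv, ← hm, map_zpow, t.2.1, (hcom.zpow_left m).eq, mul_inv_cancel_right], by
        rw [conj_mul, t.2.2, mul_one, mul_inv_cancel]⟩
      one_smul := fun t => Subtype.ext (show ((1 : Subgroup.zpowers b') : C) * t.1 * ((1 : Subgroup.zpowers b') : C)⁻¹ = t.1 by simp)
      mul_smul := fun a a' t => Subtype.ext (show ((a * a' : Subgroup.zpowers b') : C) * t.1 * ((a * a' : Subgroup.zpowers b') : C)⁻¹ =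
        (a : C) * ((a' : C) * t.1 * (a' : C)⁻¹) * (a : C)⁻¹ by simp [mul_assoc]) }
  have hP : IsPGroup 5 (Subgroup.zpowers b') := by
    haveI : Fact (Nat.Prime 5) := ⟨by norm_num⟩
    rintro ⟨a, ha⟩
    obtain ⟨m, rfl⟩ := ha
    exact ⟨1, Subtype.ext (show (b' ^ m) ^ (5 ^ 1) = 1 by
      rw [pow_one, ← zpow_natCast, ← zpow_mul, mul_comm, zpow_mul, zpow_natCast, hb'5, one_zpow])⟩
  let Pv : V → Prop := fun v => pol e0 v = 0 ∧ pol v n0 = 0 ∧ qm v = pol v w0
  have hcrit : ∀ {q : G} (hq : q ∈ Q), b0 * q * (b0 * q) = 1 ↔ Pv (F.vec q) := by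
    intro q hq
    have hb0 := b0_sq F h B hb
    have hb0i : b0⁻¹ = b0 := inv_eq_of_mul_eq_one_right hb0
    have calc' : pol e0 (F.vec q) = 0 → pol (F.vec q) n0 = 0 →
        b0 * q * (b0 * q) = Iel z x 0 (pol (F.vec q) w0 + qm (F.vec q)) := by
      intro q0 qa
      have e := hb.conj_Q F h B hq q0
      rw [qa, zero_add] at e
      have e' : q * b0 = Iel z x 0 (pol (F.vec q) w0) * b0 * q := by rw [← e]; group
      have hI : Commute b0 (Iel z x 0 (pol (F.vec q) w0)) :=
        Iel_comm F 0 _ (hb.comm F h B).1 (hb.comm F h B).2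
      calc b0 * q * (b0 * q) = b0 * (q * b0) * q := by group
        _ = (b0 * Iel z x 0 (pol (F.vec q) w0)) * b0 * (q * q) := by rw [e']; group
        _ = Iel z x 0 (pol (F.vec q) w0) * (b0 * b0) * (q * q) := by rw [hI.eq]; group
        _ = _ := by rw [hb0, mul_one, Qsq F h (x := x) hq, Iel_mul F h B, add_zero]
    constructor
    · intro e
      have e2 : b0 * q * b0⁻¹ = q⁻¹ := by
        rw [hb0i]; exact (eq_inv_of_mul_eq_one_left (by rw [← e]; group))
      have hfix : R n0 • F.vec q = F.vec q := by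
        have h2 := congrArg F.vec e2
        rw [vec_inv F h hq, show F.vec (b0 * q * b0⁻¹) = F.π bb • F.vec q from F.vec_conj bb q hq, hπb] at h2
        exact h2
      obtain ⟨q0, qa⟩ := R_fix inP_facts.2.2.2.2.2.2.2.1 nonzero_facts.2.2 hfix
      refine ⟨q0, qa, ?_⟩
      have := (Iel_eq_one F h B ((calc' q0 qa).symm.trans e)).2
      rw [eq_neg_of_add_eq_zero_right this, ZModModule.neg_eq_self]
    · rintro ⟨q0, qa, qq⟩
      rw [calc' q0 qa, qq, ZModModule.add_self, Iel_00 F]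
  have hcard : Nat.card T = 48 := by
    choose rep hrep hrepv using fun v => F.vec_surj v
    have hmem : ∀ (v : V) (β : Bool), rep v * (if β then z else 1) ∈ Q ∧ F.vec (rep v * (if β then z else 1)) = v := by
      intro v β
      cases β
      · simp [hrep v, hrepv v]
      · exact ⟨mul_mem (hrep v) (zQ h), by rw [if_pos rfl, vec_mul_z F h (hrep v), hrepv v]⟩
    let f : {v : V // Pv v} × Bool → T := fun p =>
      ⟨bb * cC (Qz h (hmem p.1 p.2).1), by rw [map_mul, π_Q F h (hmem p.1 p.2).1, mul_one, hπb], Subtype.ext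
        ((hcrit (hmem p.1 p.2).1).2 ((hmem p.1.1 p.2).2.symm ▸ p.1.2))⟩
    have hf : Function.Bijective f := by
      refine ⟨fun p p' e => ?_, fun ⟨t, htπ, htt⟩ => ?_⟩
      · have e' : rep p.1 * (if p.2 then z else 1) = rep p'.1 * (if p'.2 then z else 1) :=
          mul_left_cancel (congrArg Subtype.val (congrArg Subtype.val e) :
            b0 * (rep p.1 * (if p.2 then z else 1)) = b0 * (rep p'.1 * (if p'.2 then z else 1)))
        have ev := congrArg F.vec e'
        rw [(hmem _ _).2, (hmem _ _).2] at ev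
        obtain ⟨⟨v, hv⟩, β⟩ := p
        obtain ⟨⟨v', hv'⟩, β'⟩ := p'
        change v = v' at ev
        subst ev
        cases β <;> cases β' <;> simp_all [z_ne h, Ne.symm (z_ne h)]
      · have hQ : ((bb⁻¹ * t : C) : G) ∈ Q := (F.π_ker _).1 (by rw [map_mul, map_inv, hπb, htπ, inv_mul_cancel])
        set q := ((bb⁻¹ * t : C) : G) with hqd
        have htq : (t : G) = b0 * q := by rw [hqd]; show (t : G) = b0 * (b0⁻¹ * t); group
        have hPv : Pv (F.vec q) := (hcrit hQ).1 (by rw [← htq]; exact congrArg Subtype.val htt)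
        rcases vec_eq F hQ (hrep (F.vec q)) h (hrepv _).symm with e | e
        · exact ⟨(⟨_, hPv⟩, false), Subtype.ext (Subtype.ext (show b0 * (rep (F.vec q) * 1) = (t : G) by rw [mul_one, ← e, htq]))⟩
        · exact ⟨(⟨_, hPv⟩, true), Subtype.ext (Subtype.ext (show b0 * (rep (F.vec q) * z) = (t : G) by rw [← e, htq]))⟩
    rw [← Nat.card_congr (Equiv.ofBijective f hf), Nat.card_prod, Nat.card_eq_fintype_card, Fintype.card_subtype,
      Nat.card_eq_fintype_card, Fintype.card_bool]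
    rw [show (Finset.univ.filter Pv).card = 24 by
      convert count24 using 2]
  have hne : (MulAction.fixedPoints (Subgroup.zpowers b') T).Nonempty := by
    haveI : Fact (Nat.Prime 5) := ⟨by norm_num⟩
    refine hP.nonempty_fixed_point_of_prime_not_dvd_card T ?_
    rw [hcard]; norm_num
  obtain ⟨⟨t, htπ, htt⟩, htfix⟩ := hne
  have hcomm : Commute b' t := mul_inv_eq_iff_eq_mul.1
    (congrArg Subtype.val (htfix ⟨b', Subgroup.mem_zpowers b'⟩))
  have hcl : IsConj (t : G) b0 := classC F h B hb (congrArg Subtype.val htt) htπ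
  have hconj : IsConj ((c⁻¹ * t * c : C) : G) (t : G) := isConj_iff.2 ⟨(c : G), by
    show (c : G) * ((c : G)⁻¹ * t * c) * (c : G)⁻¹ = t; group⟩
  refine ⟨c⁻¹ * t * c, ?_, ?_, fun e => ?_, fun e => b0_not_z F h B hb ((e.trans hconj).trans hcl)⟩
  · have := (Commute.conj_iff c⁻¹).2 hcomm
    rw [hb', show c⁻¹ * (c * cC P.comm * c⁻¹) * c⁻¹⁻¹ = cC P.comm by group, inv_inv] at this
    exact (congrArg Subtype.val this.symm : _)
  · have : c⁻¹ * t * c * (c⁻¹ * t * c) = 1 := by
      rw [show c⁻¹ * t * c * (c⁻¹ * t * c) = c⁻¹ * (t * t) * c by group, htt]; group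
    exact congrArg Subtype.val this
  · rw [show c⁻¹ * t * c = (1 : C) from Subtype.ext e] at hconj
    obtain ⟨g, hg⟩ := isConj_iff.1 hconj
    have : t = 1 := Subtype.ext (hg.symm.trans (by simp))
    rw [this, map_one] at htπ
    exact nonzero_facts.2.2 (R_inj inP_facts.2.2.2.2.2.2.2.1 inP_facts.1 (by rw [R_zero]; exact htπ.symm))

end Cfsg.Agent.Spor.CoT.Five
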