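import Cfsg.Agent.Lib.Spor.CoTypeBig
import Cfsg.Agent.Lib.Spor.CoTypeFive.Checks

/-!
The fixed space of an element of order five and its orthogonal, with five singular points each.
-/

set_option autoImplicit false
set_option maxRecDepth 100000
set_option linter.unusedSectionVars false

namespace Cfsg.Agent.Spor.CoT.Five

open Chk Chk5 Five.Dat Cfsg.Agent.Classical Fin.NatCast

/-- a point of the fixed space -/
def wpt (i : Fin 5) : V := vec (wc i.val)

/-- a point of the orthogonal -/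
def upt (i : Fin 5) : V := vec (uc i.val)

/-- the element of order five -/
noncomputable def g0 : Ga := we g0w

/-- the element of order five moving the fixed space -/
noncomputable def g1 : Ga := we g1w

/-- the double transposition -/
noncomputable def ka : Ga := we kaw

/-- the exchange -/
noncomputable def sw : Ga := we sww

/-- the conjugator -/
noncomputable def hc : Ga := we hcw

/-- orthogonal to the fixed space -/
def InU (v : V) : Prop := ∀ i, pol v (wpt i) = 0

theorem wlts : wlt g0w = true ∧ wlt g1w = true ∧ wlt kaw = true ∧ wlt sww = true ∧ wlt hcw = true := by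
  have h := words_ok
  simp only [wordsOK, Bool.and_eq_true] at h
  tauto

theorem ap_vec {w : List ℕ} (hw : wlt w = true) {c : ℕ} (hc : c < 256) {d : ℕ} (h : Nat.beq (ap w c) d = true) :
    we w • vec c = vec d := by
  rw [we_smul hw hc, ← Nat.eq_of_beq_eq_true h, ap]

theorem form_row (i : Fin 5) : wc i.val < 256 ∧ uc i.val < 256 ∧ qm (wpt i) = 0 ∧ qm (upt i) = 0 ∧ wpt i ≠ 0 ∧ upt i ≠ 0 ∧
    ∀ j : Fin 5, pol (wpt i) (wpt j) = (if i = j then 0 else 1) ∧ pol (upt i) (upt j) = (if i = j then 0 else 1) ∧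
      pol (wpt i) (upt j) = 0 ∧ (wpt i = wpt j → i = j) ∧ (upt i = upt j → i = j) := by
  have h := List.all_eq_true.mp form_ok i.val (List.mem_range.mpr i.2)
  simp only [Bool.and_eq_true, List.all_eq_true, List.mem_range] at h
  obtain ⟨⟨⟨⟨⟨⟨h1, h2⟩, h3⟩, h4⟩, h5⟩, h6⟩, h7⟩ := h
  have l1 : wc i.val < 256 := Nat.le_of_ble_eq_true h1
  have l2 : uc i.val < 256 := Nat.le_of_ble_eq_true h2
  have ne : ∀ {c : ℕ}, c < 256 → (!Nat.beq c 0) = true → vec c ≠ 0 := by
    intro c hc hn e
    have e' := congrArg enc e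
    rw [enc_vec c hc, enc_zero] at e'
    rw [e'] at hn
    exact Bool.noConfusion hn
  refine ⟨l1, l2, qm_eq_zero.2 ?_, qm_eq_zero.2 ?_, ne l1 h5, ne l2 h6, fun j => ?_⟩
  · rw [wpt, enc_vec _ l1]; exact Nat.eq_of_beq_eq_true h3
  · rw [upt, enc_vec _ l2]; exact Nat.eq_of_beq_eq_true h4
  have hj := List.all_eq_true.mp form_ok j.val (List.mem_range.mpr j.2)
  simp only [Bool.and_eq_true] at hj
  have l3 : wc j.val < 256 := Nat.le_of_ble_eq_true hj.1.1.1.1.1.1
  have l4 : uc j.val < 256 := Nat.le_of_ble_eq_true hj.1.1.1.1.1.2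
  obtain ⟨⟨⟨e1, e2⟩, e3⟩, e4⟩ := h7 j.val j.2
  have hij : (bif Nat.beq i.val j.val then 0 else 1 : ℕ) = if i = j then 0 else 1 := by
    by_cases e : i = j
    · subst e; simp
    · rw [if_neg e, Bool.eq_false_iff.2 fun e' => e (Fin.ext (Nat.eq_of_beq_eq_true e'))]; rfl
  refine ⟨?_, ?_, ?_, fun e => ?_, fun e => ?_⟩
  · rw [pol_enc, wpt, wpt, enc_vec _ l1, enc_vec _ l3, Nat.eq_of_beq_eq_true e1, hij]; split_ifs <;> simp
  · rw [pol_enc, upt, upt, enc_vec _ l2, enc_vec _ l4, Nat.eq_of_beq_eq_true e2, hij]; split_ifs <;> simp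
  · rw [pol_enc, wpt, upt, enc_vec _ l1, enc_vec _ l4, Nat.eq_of_beq_eq_true e3, Nat.cast_zero]
  all_goals
    by_contra hne
    simp only [Bool.or_eq_true, Bool.and_eq_true] at e4
    rcases e4 with e4 | ⟨e4, e5⟩
    · exact hne (Fin.ext (Nat.eq_of_beq_eq_true e4))
  · have := congrArg enc e
    rw [wpt, wpt, enc_vec _ l1, enc_vec _ l3] at this
    rw [this, Nat.beq_refl] at e4
    exact Bool.noConfusion e4
  · have := congrArg enc e
    rw [upt, upt, enc_vec _ l2, enc_vec _ l4] at this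
    rw [this, Nat.beq_refl] at e5
    exact Bool.noConfusion e5

theorem wpt_inj : Function.Injective wpt := fun i j => ((form_row i).2.2.2.2.2.2 j).2.2.2.1

theorem upt_inj : Function.Injective upt := fun i j => ((form_row i).2.2.2.2.2.2 j).2.2.2.2

/-- the image of a point under the double transposition -/
def sigA : Equiv.Perm (Fin 5) := Equiv.swap 0 1 * Equiv.swap 2 3

theorem add_one_val : ∀ i : Fin 5, (i + 1).val = (i.val + 1) % 5 ∧ (sigA i).val = kaImg i.val := by decide +kernel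

theorem acts (i : Fin 5) :
    g0 • wpt i = wpt i ∧ g0 • upt i = upt (i + 1) ∧ g1 • wpt i = wpt (i + 1) ∧ g1 • upt i = upt i ∧
      ka • wpt i = wpt (sigA i) ∧ ka • upt i = upt i ∧ sw • wpt i = upt i ∧ sw • upt i = wpt i := by
  have h := List.all_eq_true.mp act_ok i.val (List.mem_range.mpr i.2)
  simp only [Bool.and_eq_true] at h
  obtain ⟨⟨⟨⟨⟨⟨⟨a1, a2⟩, a3⟩, a4⟩, a5⟩, a6⟩, a7⟩, a8⟩ := h
  obtain ⟨l1, l2, -⟩ := form_row i
  obtain ⟨w1, w2, w3, w4, -⟩ := wlts
  obtain ⟨ea, eb⟩ := add_one_val i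
  simp only [wpt, upt, ea, eb]
  exact ⟨ap_vec w1 l1 a1, ap_vec w1 l2 a2, ap_vec w2 l1 a3, ap_vec w2 l2 a4, ap_vec w3 l1 a5, ap_vec w3 l2 a6,
    ap_vec w4 l1 a7, ap_vec w4 l2 a8⟩

theorem orth10 {v : V} (hw : ∀ i, pol v (wpt i) = 0) (hu : ∀ i, pol v (upt i) = 0) : v = 0 := by
  have h := List.all_eq_true.mp orth_ok (enc v) (List.mem_range.mpr (enc_lt v))
  simp only [Bool.or_eq_true, List.any_eq_true, List.mem_range] at h
  rcases h with h | ⟨i, hi, h | h⟩
  · exact enc_injective ((Nat.eq_of_beq_eq_true h).trans enc_zero.symm)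
  · have := pol_eq_zero.1 (hw ⟨i, hi⟩)
    rw [wpt, enc_vec _ (form_row ⟨i, hi⟩).1] at this
    rw [this] at h; exact Bool.noConfusion h
  · have := pol_eq_zero.1 (hu ⟨i, hi⟩)
    rw [upt, enc_vec _ (form_row ⟨i, hi⟩).2.1] at this
    rw [this] at h; exact Bool.noConfusion h

theorem ext10O {g h : OG} (hw : ∀ i, g • wpt i = h • wpt i) (hu : ∀ i, g • upt i = h • upt i) : g = h := by
  refine Subtype.ext (LinearEquiv.ext fun v => ?_)
  show g • v = h • v
  have key : ∀ p, g • p = h • p → pol (g⁻¹ • (g • v + h • v)) p = 0 := fun p hp => by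
    rw [← osmul_pol g, smul_inv_smul, pol_add_left, osmul_pol, hp, osmul_pol, ZModModule.add_self]
  have e := orth10 (fun i => key _ (hw i)) fun i => key _ (hu i)
  rw [inv_smul_eq_iff, osmul_zero] at e
  rw [eq_neg_of_add_eq_zero_left e, ZModModule.neg_eq_self]

theorem ext10 {g h : Ga} (hw : ∀ i, g • wpt i = h • wpt i) (hu : ∀ i, g • upt i = h • upt i) : g = h :=
  Subtype.ext (ext10O hw hu)

theorem g0_pow : ∀ (n : ℕ) (i : Fin 5), g0 ^ n • wpt i = wpt i ∧ g0 ^ n • upt i = upt (i + (n : Fin 5))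
  | 0, i => by simp
  | n + 1, i => by
    obtain ⟨a, b⟩ := g0_pow n i
    rw [pow_succ', mul_smul, mul_smul, a, b, (acts i).1, (acts _).2.1]
    exact ⟨rfl, congrArg upt (by push_cast; rw [add_assoc])⟩

theorem g1_pow : ∀ (n : ℕ) (i : Fin 5), g1 ^ n • wpt i = wpt (i + (n : Fin 5)) ∧ g1 ^ n • upt i = upt i
  | 0, i => by simp
  | n + 1, i => by
    obtain ⟨a, b⟩ := g1_pow n i
    rw [pow_succ', mul_smul, mul_smul, a, b, (acts i).2.2.2.1, (acts _).2.2.1]
    exact ⟨congrArg wpt (by push_cast; rw [add_assoc]), rfl⟩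

theorem fin5_five : ((5 : ℕ) : Fin 5) = 0 := by decide

theorem g0_five : g0 ^ 5 = 1 :=
  ext10 (fun i => by rw [(g0_pow 5 i).1, one_smul]) fun i => by rw [(g0_pow 5 i).2, fin5_five, add_zero, one_smul]

theorem g1_five : g1 ^ 5 = 1 :=
  ext10 (fun i => by rw [(g1_pow 5 i).1, fin5_five, add_zero, one_smul]) fun i => by rw [(g1_pow 5 i).2, one_smul]

theorem g0_order : orderOf g0 = 5 := by
  haveI : Fact (Nat.Prime 5) := ⟨by norm_num⟩
  refine orderOf_eq_prime g0_five fun e => ?_
  have := (acts 0).2.1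
  rw [e, one_smul] at this
  exact absurd (upt_inj this) (by decide)

theorem g01_comm : Commute g0 g1 :=
  ext10 (fun i => by rw [mul_smul, mul_smul, (acts i).2.2.1, (acts i).1, (acts _).1, (acts i).2.2.1])
    fun i => by rw [mul_smul, mul_smul, (acts i).2.2.2.1, (acts i).2.1, (acts _).2.2.2.1]

theorem perpU_fix {v : V} (h : ∀ i, pol v (upt i) = 0) : g0 • v = v := by
  have e : g0 • v + v = 0 := orth10 (fun i => by
    rw [pol_add_left, show pol (g0 • v) (wpt i) = pol v (wpt i) by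
      conv_lhs => rw [← (acts i).1, smul_pol], ZModModule.add_self]) fun i => by
    rw [pol_add_left, h i, show pol (g0 • v) (upt i) = pol v (upt (i - 1)) by
      conv_lhs => rw [show i = i - 1 + 1 from (sub_add_cancel i 1).symm, ← (acts (i - 1)).2.1, smul_pol], h, add_zero]
  rw [eq_neg_of_add_eq_zero_left e, ZModModule.neg_eq_self]

theorem singW {v : V} (h0 : v ≠ 0) (hq : qm v = 0) (hf : g0 • v = v) : ∃ i, v = wpt i := by
  have h := List.all_eq_true.mp singW_ok (enc v) (List.mem_range.mpr (enc_lt v))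
  simp only [Bool.or_eq_true, List.any_eq_true, List.mem_range] at h
  rcases h with ((h | h) | h) | ⟨i, hi, h⟩
  · exact absurd (enc_injective ((Nat.eq_of_beq_eq_true h).trans enc_zero.symm)) h0
  · rw [qm_eq_zero.1 hq] at h; exact Bool.noConfusion h
  · exfalso
    have e : ap g0w (enc v) = enc v := by
      rw [ap, ← enc_osmul (we_cols wlts.1)]
      exact congrArg enc hf
    rw [e, Nat.beq_refl] at h
    exact Bool.noConfusion h
  · exact ⟨⟨i, hi⟩, by rw [wpt, ← Nat.eq_of_beq_eq_true h, vec_enc]⟩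

theorem singU {v : V} (h0 : v ≠ 0) (hq : qm v = 0) (hf : InU v) : ∃ i, v = upt i := by
  have h := List.all_eq_true.mp singU_ok (enc v) (List.mem_range.mpr (enc_lt v))
  simp only [Bool.or_eq_true, List.any_eq_true, List.mem_range] at h
  rcases h with ((h | h) | ⟨i, hi, h⟩) | ⟨i, hi, h⟩
  · exact absurd (enc_injective ((Nat.eq_of_beq_eq_true h).trans enc_zero.symm)) h0
  · rw [qm_eq_zero.1 hq] at h; exact Bool.noConfusion h
  · have := pol_eq_zero.1 (hf ⟨i, hi⟩)
    rw [wpt, enc_vec _ (form_row ⟨i, hi⟩).1] at this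
    rw [this] at h; exact Bool.noConfusion h
  · exact ⟨⟨i, hi⟩, by rw [upt, ← Nat.eq_of_beq_eq_true h, vec_enc]⟩

theorem fix_dual {v : V} (h0 : v ≠ 0) (hf : g0 • v = v) : ∃ i, pol (wpt i) v = 1 := by
  have h := List.all_eq_true.mp dual_ok (enc v) (List.mem_range.mpr (enc_lt v))
  simp only [Bool.or_eq_true, List.any_eq_true, List.mem_range] at h
  rcases h with (h | h) | ⟨i, hi, h⟩
  · exact absurd (enc_injective ((Nat.eq_of_beq_eq_true h).trans enc_zero.symm)) h0
  · exfalso
    have e : ap g0w (enc v) = enc v := by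
      rw [ap, ← enc_osmul (we_cols wlts.1)]
      exact congrArg enc hf
    rw [e, Nat.beq_refl] at h
    exact Bool.noConfusion h
  · exact ⟨⟨i, hi⟩, by rw [pol_enc, wpt, enc_vec _ (form_row ⟨i, hi⟩).1, Nat.eq_of_beq_eq_true h, Nat.cast_one]⟩

theorem fix_span {v : V} (hf : g0 • v = v) (S : AddSubgroup V) (hS : ∀ i : Fin 4, wpt i.castSucc ∈ S) : v ∈ S := by
  have h := List.all_eq_true.mp Chk5.span_ok (enc v) (List.mem_range.mpr (enc_lt v))
  simp only [Bool.or_eq_true, List.any_eq_true, List.mem_range] at h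
  rcases h with h | ⟨m, -, h⟩
  · exfalso
    have e : ap g0w (enc v) = enc v := by
      rw [ap, ← enc_osmul (we_cols wlts.1)]
      exact congrArg enc hf
    rw [e, Nat.beq_refl] at h
    exact Bool.noConfusion h
  rw [← vec_enc v, ← Nat.eq_of_beq_eq_true h, comb]
  have key : ∀ (l : List ℕ), (∀ k ∈ l, k < 4) → ∀ r : ℕ, vec r ∈ S →
      vec (l.foldl (fun r k => bif Nat.testBit m k then Nat.xor r (wc k) else r) r) ∈ S := by
    intro l
    induction l with
    | nil => exact fun _ r hr => hr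
    | cons k l ih =>
      intro hl r hr
      rw [List.foldl_cons]
      refine ih (fun x hx => hl x (List.mem_cons_of_mem _ hx)) _ ?_
      cases Nat.testBit m k
      · exact hr
      · show vec (Nat.xor r (wc k)) ∈ S
        rw [vec_xor]
        exact add_mem hr (hS ⟨k, hl k List.mem_cons_self⟩)
  exact key _ (fun k hk => List.mem_range.mp hk) 0 (by
    rw [show vec 0 = (0 : V) from funext fun i => by simp [vec]]; exact zero_mem S)

theorem it_enc {w : List ℕ} (hw : wlt w = true) (v : V) : ∀ n, enc (we w ^ n • v) = it (wp w) n (enc v)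
  | 0 => by rw [pow_zero, one_smul]; rfl
  | n + 1 => by
    rw [pow_succ', mul_smul]
    show enc ((we w : OG) • (we w ^ n • v)) = _
    rw [enc_osmul (we_cols hw), it_enc hw v n, it]

theorem u_move {v : V} (h0 : v ≠ 0) (hu : InU v) : ∃ n : ℕ, pol v (g0 ^ n • v) = 1 := by
  have h := List.all_eq_true.mp move_ok (enc v) (List.mem_range.mpr (enc_lt v))
  simp only [Bool.or_eq_true, List.any_eq_true, List.mem_range] at h
  rcases h with (h | ⟨i, hi, h⟩) | ⟨n, -, h⟩
  · exact absurd (enc_injective ((Nat.eq_of_beq_eq_true h).trans enc_zero.symm)) h0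
  · have := pol_eq_zero.1 (hu ⟨i, hi⟩)
    rw [wpt, enc_vec _ (form_row ⟨i, hi⟩).1] at this
    rw [this] at h; exact Bool.noConfusion h
  · exact ⟨n, by rw [pol_enc, g0, it_enc wlts.1, Nat.eq_of_beq_eq_true h, Nat.cast_one]⟩

theorem free_facts {i j : ℕ} (hi : i < 5) (hj : j < 5) (i0 : i ≠ 0) (j0 : j ≠ 0) {v : V}
    (h : (g0 ^ i * g1 ^ j) • v = v) : v = 0 := by
  have h' := List.all_eq_true.mp (List.all_eq_true.mp free_ok i (List.mem_range.mpr hi)) j (List.mem_range.mpr hj)
  simp only [Bool.or_eq_true, List.all_eq_true, List.mem_range] at h'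
  rcases h' with (e | e) | e
  · exact absurd (Nat.eq_of_beq_eq_true e) i0
  · exact absurd (Nat.eq_of_beq_eq_true e) j0
  rcases e (enc v) (enc_lt v) with e | e
  · exact enc_injective ((Nat.eq_of_beq_eq_true e).trans enc_zero.symm)
  · exfalso
    have := congrArg enc h
    rw [mul_smul, g0, g1, it_enc wlts.1, it_enc wlts.2.1] at this
    rw [this, Nat.beq_refl] at e
    exact Bool.noConfusion e

theorem orb_bound {s w : V} (hs : g0 • s = s) (hw : g0 • w = w) (s0 : s ≠ 0) (qs : qm s = 0) (p : pol s w = 1) :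
    Nat.card {v : V // qm v = qm w ∧ ∀ r : V, g0 • r = r → pol r s = 0 → pol r v = pol r w} ≤ 16 := by
  have hmem : ∀ {v : V}, g0 • v = v → enc v ∈ fixL := fun {v} hv => by
    refine List.mem_filter.2 ⟨List.mem_range.2 (enc_lt v), ?_⟩
    show Nat.beq (app (wp g0w) (enc v)) (enc v) = true
    rw [← enc_osmul (we_cols wlts.1), show (we g0w : OG) • v = v from hv, Nat.beq_refl]
  have hbe : ∀ {v : V}, enc v ∈ fixL → g0 • v = v := fun {v} hv => by
    refine enc_injective ?_
    show enc ((we g0w : OG) • v) = enc v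
    rw [enc_osmul (we_cols wlts.1)]
    exact Nat.eq_of_beq_eq_true (List.mem_filter.1 hv).2
  have h := List.all_eq_true.mp orb_ok (enc s) (hmem hs)
  simp only [Bool.or_eq_true, List.all_eq_true] at h
  rcases h with (h | h) | h
  · exact absurd (enc_injective ((Nat.eq_of_beq_eq_true h).trans enc_zero.symm)) s0
  · rw [qm_eq_zero.1 qs] at h; exact Bool.noConfusion h
  rcases h (enc w) (hmem hw) with h | h
  · rw [pol_enc, Nat.eq_of_beq_eq_true h, Nat.cast_zero] at p; exact absurd p zero_ne_one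
  refine le_trans ?_ (Nat.le_of_ble_eq_true h)
  set L := (List.range 256).filter fun v => Nat.beq (qc v) (qc (enc w)) &&
    (fixL.filter fun r => Nat.beq (pc r (enc s)) 0).all fun r => Nat.beq (pc r v) (pc r (enc w))
  have hcast : ∀ {a b : ℕ}, a < 2 → b < 2 → (a : ZMod 2) = b → a = b := by
    intro a b ha hb
    interval_cases a <;> interval_cases b <;> simp
  have hf : ∀ v : {v : V // qm v = qm w ∧ ∀ r : V, g0 • r = r → pol r s = 0 → pol r v = pol r w},
      enc v.1 ∈ L.toFinset := fun ⟨v, hq, hr⟩ => by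
    simp only [L, List.mem_toFinset, List.mem_filter, List.mem_range, Bool.and_eq_true, List.all_eq_true]
    refine ⟨enc_lt v, ?_, fun r hr' => ?_⟩
    · rw [qm_enc, qm_enc] at hq
      rw [hcast (qc_lt _) (qc_lt _) hq, Nat.beq_refl]
    obtain ⟨hrF, hrs⟩ := hr'
    have hr256 : r < 256 := List.mem_range.1 (List.mem_filter.1 hrF).1
    have e := hr (vec r) (hbe (by rwa [enc_vec r hr256])) (by
      rw [pol_eq_zero, enc_vec r hr256]; exact Nat.eq_of_beq_eq_true hrs)
    rw [pol_enc, pol_enc, enc_vec r hr256] at e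
    exact (congrArg (Nat.beq _) (hcast (a := pc r (enc v)) (b := pc r (enc w)) (Nat.mod_lt _ (by norm_num))
      (Nat.mod_lt _ (by norm_num)) e).symm).trans (Nat.beq_refl _)
  refine le_trans (Nat.card_le_card_of_injective (fun v => (⟨_, hf v⟩ : {c // c ∈ L.toFinset}))
    fun a b e => Subtype.ext (enc_injective (congrArg Subtype.val e))) ?_
  rw [Nat.card_eq_fintype_card, Fintype.card_coe]
  exact List.toFinset_card_le L

theorem conj_sC : hc * ka * hc⁻¹ = sC := by
  obtain ⟨-, -, w3, -, w5⟩ := wlts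
  refine conj_we w5 (we_cols w3) (R_spec inP_facts.2.2.2.2.2.2.2.1).2.2 ?_
  have h := conj_ok
  rw [conjOK, beq_iff_eq] at h
  rw [show enc n0 = 136 from enc_vec 136 (by norm_num)]
  exact h

theorem count24 : (Finset.univ.filter fun v : V => pol e0 v = 0 ∧ pol v n0 = 0 ∧ qm v = pol v w0).card = 24 := by
  decide +kernel

end Cfsg.Agent.Spor.CoT.Five
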