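import Cfsg.Agent.Lib.Spor.CoTypeFive.Local
import Cfsg.Agent.Lib.Lie.J2Unique.Model
import Cfsg.Agent.Lib.Lie.HallJankoPairs

/-!
Groups of Conway type: the centraliser of an element of order five, modulo that element, is of Hall–Janko type.
-/

set_option autoImplicit false
set_option maxRecDepth 100000
set_option linter.unusedSectionVars false

namespace Cfsg.Agent.Spor.CoT.Five

open Cfsg.Agent.Classical Fin.NatCast Equiv Cfsg.Agent.Lie

local notation "A5" => alternatingGroup (Fin 5)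

universe u

variable {G : Type u} [Group G] [Finite G] {z : G} {Q : Subgroup G} {F : Frame z Q} {b : G}

theorem noncomm_conj (h : Hyp z Q) {a c : G} (ha : a ∈ Q) (hc : c ∈ Q) (hp : pol (F.vec a) (F.vec c) = 1) :
    a * c * a⁻¹ = c * z ∧ ¬ Commute a c := by
  have hn : ¬ Commute a c := fun e => by
    rw [(F.comm_iff a ha c hc).1 e] at hp; exact zero_ne_one hp
  refine ⟨?_, hn⟩
  rcases F.comm_or c hc a ha with e | e
  · exact absurd e hn
  · rw [e, mul_assoc (c * a), ← (Qz h (inv_mem ha)).eq, ← mul_assoc, mul_inv_cancel_right]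

/-- an involution of the fixed points is conjugate to the central one inside the centraliser -/
theorem exists_conj (h : Hyp z Q) (P : Five F b) {x : G} (hx : x ∈ Q) (hxb : Commute b x) (hxx : x * x = 1)
    (hx1 : x ≠ 1) (hxz : x ≠ z) : ∃ g : G, Commute g b ∧ g * z * g⁻¹ = x := by
  obtain ⟨hv0, hvq⟩ := core_sing F h hx hxx hx1 hxz
  have hcz : IsConj z x := core_conj F h hx hxx hx1 hxz
  obtain ⟨g, hg⟩ := isConj_iff.1 hcz
  have hzx : InQ z Q x z := (mem_symm F h (IsConj.refl z) ((inQ_z h).2 hx) hxx hx1 hxz).2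
  have hz' : g⁻¹ * z * g ∈ Q := (inQ_iff h hg).1 hzx
  set z' := g⁻¹ * z * g with hz'd
  have hb' : Commute (g⁻¹ * b * g) z := by
    have := (Commute.conj_iff g⁻¹).2 hxb
    rwa [← hg, show g⁻¹ * (g * z * g⁻¹) * g⁻¹⁻¹ = z by group, inv_inv] at this
  have hb'5 : (g⁻¹ * b * g) ^ 5 = 1 := by
    rw [show g⁻¹ * b * g = g⁻¹ * b * g⁻¹⁻¹ by group, conj_pow, P.pow]; group
  have hz'z : Commute (g⁻¹ * b * g) z' := by
    have := (Commute.conj_iff g⁻¹).2 P.comm
    rwa [inv_inv] at this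
  have hz'1 : z' ≠ 1 := fun e => z_ne h (by
    calc z = g * (g⁻¹ * z * g) * g⁻¹ := by group
      _ = 1 := by rw [← hz'd, e]; group)
  have hz'n : z' ≠ z := fun e => hxz (by
    rw [← hg]; nth_rewrite 2 [show z = g * (g⁻¹ * z * g) * g⁻¹ by group]; rw [← hz'd, e])
  set c := cC hb'
  have hfix : F.π c • F.vec z' = F.vec z' := by
    rw [← F.vec_conj c z' hz']
    exact congrArg F.vec (mul_inv_eq_iff_eq_mul.2 hz'z)
  obtain ⟨i, hi⟩ : ∃ w, pol (F.vec z') w ≠ 0 := by
    by_contra! hn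
    refine ((core_sing F h hz' ?_ hz'1 hz'n).1 : F.vec z' ≠ 0) (QF_pnd _ fun w => ?_)
    · rw [hz'd, show g⁻¹ * z * g * (g⁻¹ * z * g) = g⁻¹ * (z * z) * g by group, zz h]; group
    · rw [← pol_eq_polar]; exact hn w
  set p := F.π c with hpd
  set v := i + p • i + p ^ 2 • i + p ^ 3 • i + p ^ 4 • i with hvd
  have hp5 : p ^ 5 = 1 := by rw [hpd, ← map_pow, show c ^ 5 = 1 from Subtype.ext hb'5, map_one]
  have hvf : p • v = v := by
    rw [hvd]
    simp only [smul_add', ← mul_smul, ← pow_succ', ← sq]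
    rw [show 4 + 1 = 5 from rfl, hp5, one_smul]
    abel
  have hvp : pol (F.vec z') v = 1 := by
    have e : ∀ n : ℕ, pol (F.vec z') (p ^ n • i) = 1 := fun n => by
      have hn : p ^ n • F.vec z' = F.vec z' := by
        induction n with
        | zero => rw [pow_zero, one_smul]
        | succ n ih => rw [pow_succ', mul_smul, ih, hfix]
      conv_lhs => rw [← hn]
      rw [smul_pol]
      exact zm2_one hi
    rw [hvd, pol_add_right, pol_add_right, pol_add_right, pol_add_right, zm2_one hi, ← pow_one p, e, ← pow_mul,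
      ← pow_mul, ← pow_mul, e, e, e]
    decide
  obtain ⟨q, hq, hqv⟩ := F.vec_surj v
  have hqb : Commute (c : G) q :=
    fix_comm F h (n := 5) ⟨2, rfl⟩ hb'5 hq (by rw [hqv]; exact hvf)
  obtain ⟨e1, -⟩ := noncomm_conj (F := F) h hq hz' (by rw [pol_comm', hqv, hvp])
  obtain ⟨j, hj⟩ := fix_dual hv0 ((memR h P hx).1 hxb)
  obtain ⟨r, hr, hrb, hrv, -⟩ := exists_rw h P j
  obtain ⟨e2, -⟩ := noncomm_conj (F := F) h hr hx (by rw [hrv, hj])
  refine ⟨r⁻¹ * (g * q * g⁻¹), ?_, ?_⟩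
  · refine hrb.symm.inv_left.mul_left ?_
    have := (Commute.conj_iff g).2 hqb.symm
    rwa [show g * (c : G) * g⁻¹ = b by show g * (g⁻¹ * b * g) * g⁻¹ = b; group] at this
  · have ez : g * q * g⁻¹ * z * (g * q * g⁻¹)⁻¹ = r * x * r⁻¹ := by
      rw [e2, show g * q * g⁻¹ * z * (g * q * g⁻¹)⁻¹ = g * (q * (g⁻¹ * z * g) * q⁻¹) * g⁻¹ by group, ← hz'd, e1,
        show g * (z' * z) * g⁻¹ = g * z' * g⁻¹ * (g * z * g⁻¹) by group, hg,
        show g * z' * g⁻¹ = z by rw [hz'd]; group, (Qz h hx).eq]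
    rw [mul_inv_rev, show r⁻¹ * (g * q * g⁻¹) * z * ((g * q * g⁻¹)⁻¹ * r⁻¹⁻¹) =
      r⁻¹ * (g * q * g⁻¹ * z * (g * q * g⁻¹)⁻¹) * r by group, ez]
    group

variable (P : Five F b)

theorem zpow_cases (P : Five F b) {a : G} (ha : a ∈ Subgroup.zpowers b) : ∃ n : ℕ, a = b ^ n := by
  obtain ⟨n, hn⟩ := mem_powers_iff_mem_zpowers.2 ha
  exact ⟨n, hn.symm⟩

theorem pow_in_Q (h : Hyp z Q) (P : Five F b) {n : ℕ} (hn : b ^ n ∈ Q) : b ^ n = 1 := by
  have h5 : n % 5 = 0 := by
    by_contra hne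
    exact P.not_mem n hne hn
  rw [← Nat.mod_add_div n 5, h5, zero_add, pow_mul, P.pow, one_pow]

theorem pow_sq (P : Five F b) {n : ℕ} (hn : b ^ n * b ^ n = 1) : b ^ n = 1 := by
  have e5 : (b ^ n) ^ 5 = 1 := by rw [← pow_mul, mul_comm, pow_mul, P.pow, one_pow]
  calc b ^ n = b ^ n * ((b ^ n * b ^ n) * (b ^ n * b ^ n)) := by rw [hn, one_mul, mul_one]
    _ = (b ^ n) ^ 5 := by simp only [pow_succ, pow_zero, one_mul]; group
    _ = 1 := e5

theorem core (h : Hyp z Q) (P : Five F b) {Hb : Type u} [Group Hb] [Finite Hb]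
    (p : Subgroup.centralizer ({b} : Set G) →* Hb) (hp : Function.Surjective p)
    (hker : ∀ a : Subgroup.centralizer ({b} : Set G), p a = 1 ↔ (a : G) ∈ Subgroup.zpowers b)
    (hR : Cfsg.IsExtraspecial 2 ↥(Q ⊓ Subgroup.centralizer ({b} : Set G) : Subgroup G))
    (hR32 : Nat.card ↥(Q ⊓ Subgroup.centralizer ({b} : Set G) : Subgroup G) = 32) :
    ∃ E : Subgroup Hb, HJType.Hyp
      (p ⟨z, Subgroup.mem_centralizer_singleton_iff.2 P.comm.symm.eq⟩) E := by
  classical
  set zH : (Subgroup.centralizer ({b} : Set G)) := ⟨z, Subgroup.mem_centralizer_singleton_iff.2 P.comm.symm.eq⟩ with hzH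
  set R0 : Subgroup G := Q ⊓ (Subgroup.centralizer ({b} : Set G)) with hR0
  have hz1 : p zH ≠ 1 := fun e => by
    obtain ⟨n, hn⟩ := zpow_cases P ((hker zH).1 e)
    change z = b ^ n at hn
    exact z_ne h (hn.trans (pow_in_Q h P (hn ▸ zQ h)))
  have hz2 : orderOf (p zH) = 2 := HallJankoPairs.ord_of
    (by rw [← map_mul, show zH * zH = 1 from Subtype.ext (zz h), map_one]) hz1
  have heq : ∀ {a a' : (Subgroup.centralizer ({b} : Set G))}, p a = p a' → ∃ n : ℕ, (a' : G) = a * b ^ n := by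
    intro a a' e
    obtain ⟨n, hn⟩ := zpow_cases P ((hker (a⁻¹ * a')).1 (by rw [map_mul, map_inv, e, inv_mul_cancel]))
    exact ⟨n, by rw [← hn]; show (a' : G) = a * ((a : G)⁻¹ * a'); group⟩
  have hmove : ∀ {a s : (Subgroup.centralizer ({b} : Set G))}, p (a * zH * a⁻¹) = p s → (s : G) * s = 1 → (a : G) * z * (a : G)⁻¹ = s := by
    intro a s e hs
    obtain ⟨n, hn⟩ := heq e
    change (s : G) = (a : G) * z * (a : G)⁻¹ * b ^ n at hn
    have hab0 : Commute (a : G) b := Subgroup.mem_centralizer_singleton_iff.1 a.2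
    have hab : Commute ((a : G) * z * (a : G)⁻¹) (b ^ n) :=
      ((hab0.mul_left P.comm.symm).mul_left hab0.inv_left).pow_right n
    have h1 : b ^ n * b ^ n = 1 := by
      calc b ^ n * b ^ n = (a : G) * (z * z) * (a : G)⁻¹ * (b ^ n * b ^ n) := by rw [zz h]; group
        _ = (a : G) * z * (a : G)⁻¹ * ((a : G) * z * (a : G)⁻¹) * (b ^ n * b ^ n) := by group
        _ = (s : G) * s := by rw [hab.mul_mul_mul_comm, ← hn]
        _ = 1 := hs
    rw [hn, pow_sq P h1, mul_one]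
  set Cb := Subgroup.centralizer ({p zH} : Set Hb) with hCb
  let toH : (Subgroup.centralizer ({b} : Set G)).subgroupOf (Subgroup.centralizer ({z} : Set G)) →* (Subgroup.centralizer ({b} : Set G)) :=
    { toFun := fun d => ⟨((d.1 : (Subgroup.centralizer ({z} : Set G))) : G), Subgroup.mem_subgroupOf.1 d.2⟩
      map_one' := rfl
      map_mul' := fun _ _ => rfl }
  let φ : (Subgroup.centralizer ({b} : Set G)).subgroupOf (Subgroup.centralizer ({z} : Set G)) →* Cb := (p.comp toH).codRestrict Cb fun d =>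
    Subgroup.mem_centralizer_singleton_iff.2 (by
      show p (toH d) * p zH = p zH * p (toH d)
      rw [← map_mul, ← map_mul]
      exact congrArg p (Subtype.ext (Subgroup.mem_centralizer_singleton_iff.1 (d.1 : (Subgroup.centralizer ({z} : Set G))).2)))
  have hφs : Function.Surjective φ := by
    rintro ⟨y, hy⟩
    obtain ⟨a, rfl⟩ := hp y
    have e : p (a * zH * a⁻¹) = p zH := by
      rw [map_mul, map_mul, map_inv, Subgroup.mem_centralizer_singleton_iff.1 hy, mul_inv_cancel_right]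
    have := hmove e (zz h)
    exact ⟨⟨⟨a, Subgroup.mem_centralizer_singleton_iff.2 (mul_inv_eq_iff_eq_mul.1 this)⟩,
      Subgroup.mem_subgroupOf.2 a.2⟩, rfl⟩
  have hφk : φ.ker ≤ (psiD P).ker := fun d hd => by
    have e : p (toH d) = 1 := congrArg Subtype.val hd
    obtain ⟨n, hn⟩ := zpow_cases P ((hker _).1 e)
    change ((d.1 : (Subgroup.centralizer ({z} : Set G))) : G) = b ^ n at hn
    exact (psiD_ker h P).2 ⟨1, one_mem Q, Commute.one_right _, n, by rw [one_mul]; exact hn⟩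
  set f : Cb →* A5 := φ.liftOfSurjective hφs ⟨psiD P, hφk⟩ with hfd
  have hfφ : ∀ d, f (φ d) = psiD P d := fun d => φ.liftOfRightInverse_comp_apply _ _ _ d
  have hfs : Function.Surjective f := fun σ => by
    obtain ⟨d, rfl⟩ := psiD_surj h P σ
    exact ⟨φ d, hfφ d⟩
  let inD : R0 →* (Subgroup.centralizer ({b} : Set G)).subgroupOf (Subgroup.centralizer ({z} : Set G)) :=
    { toFun := fun r => ⟨⟨r, h.le r.2.1⟩, Subgroup.mem_subgroupOf.2 r.2.2⟩
      map_one' := rfl
      map_mul' := fun _ _ => rfl }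
  have hrb : ∀ r : R0, Commute b (r : G) := fun r => (Subgroup.mem_centralizer_singleton_iff.1 r.2.2).symm
  let ι : R0 →* f.ker := (φ.comp inD).codRestrict _ fun r => by
    show f (φ (inD r)) = 1
    rw [hfφ, psiD_ker h P]
    exact ⟨r, r.2.1, hrb r, 0, by rw [pow_zero, mul_one]; rfl⟩
  have hι : Function.Bijective ι := by
    refine ⟨(injective_iff_map_eq_one ι).2 fun r hr => ?_, fun ⟨y, hy⟩ => ?_⟩
    · have e : p (toH (inD r)) = 1 := congrArg Subtype.val (congrArg Subtype.val hr)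
      obtain ⟨n, hn⟩ := zpow_cases P ((hker _).1 e)
      change (r : G) = b ^ n at hn
      exact Subtype.ext (hn.trans (pow_in_Q h P (hn ▸ r.2.1)))
    · obtain ⟨d, rfl⟩ := hφs y
      have hd : psiD P d = 1 := by rw [← hfφ]; exact hy
      obtain ⟨r, hr, hrb', n, hn⟩ := (psiD_ker h P).1 hd
      have hrH : r ∈ (Subgroup.centralizer ({b} : Set G)) := Subgroup.mem_centralizer_singleton_iff.2 hrb'.symm.eq
      refine ⟨⟨r, hr, hrH⟩, Subtype.ext (Subtype.ext ?_)⟩
      show p ⟨r, hrH⟩ = p (toH d)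
      rw [show toH d = ⟨r, hrH⟩ * (⟨b, Subgroup.mem_centralizer_singleton_iff.2 rfl⟩ : (Subgroup.centralizer ({b} : Set G))) ^ n from
        Subtype.ext (by rw [Subgroup.coe_mul, Subgroup.coe_pow]; exact hn), map_mul, map_pow,
        (hker ⟨b, Subgroup.mem_centralizer_singleton_iff.2 rfl⟩).2 (Subgroup.mem_zpowers b), one_pow, mul_one]
  have h2c : Subgroup.centralizer (f.ker : Set Cb) ≤ f.ker := by
    intro y hy
    obtain ⟨d, rfl⟩ := hφs y
    rw [MonoidHom.mem_ker, hfφ]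
    refine self_cent h P fun r hr hrb' => ?_
    have hrH : r ∈ (Subgroup.centralizer ({b} : Set G)) := Subgroup.mem_centralizer_singleton_iff.2 hrb'.symm.eq
    have e : p (⟨r, hrH⟩ * toH d) = p (toH d * ⟨r, hrH⟩) := by
      rw [map_mul, map_mul]
      exact congrArg Subtype.val (Subgroup.mem_centralizer_iff.1 hy _ (ι ⟨r, hr, hrH⟩).2)
    obtain ⟨n, hn⟩ := heq e
    change ((d.1 : (Subgroup.centralizer ({z} : Set G))) : G) * r = r * ((d.1 : (Subgroup.centralizer ({z} : Set G))) : G) * b ^ n at hn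
    have hdb : Commute ((d.1 : (Subgroup.centralizer ({z} : Set G))) : G) b := Subgroup.mem_centralizer_singleton_iff.1 (toH d).2
    have hbn : b ^ n = 1 := by
      refine pow_in_Q h P ?_
      have e' : b ^ n = ((d.1 : (Subgroup.centralizer ({z} : Set G))) : G)⁻¹ * (r⁻¹ * ((d.1 : (Subgroup.centralizer ({z} : Set G))) : G) * r) := by
        rw [mul_assoc r⁻¹, hn]; group
      have hconj := h.norm ((d.1 : (Subgroup.centralizer ({z} : Set G))) : G)⁻¹ (mem_C.1 (d.1 : (Subgroup.centralizer ({z} : Set G))).2).inv_left r⁻¹ (inv_mem hr)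
      rw [inv_inv] at hconj
      rw [e', show ((d.1 : (Subgroup.centralizer ({z} : Set G))) : G)⁻¹ * (r⁻¹ * ((d.1 : (Subgroup.centralizer ({z} : Set G))) : G) * r) =
        ((d.1 : (Subgroup.centralizer ({z} : Set G))) : G)⁻¹ * r⁻¹ * ((d.1 : (Subgroup.centralizer ({z} : Set G))) : G) * r by group]
      exact mul_mem hconj hr
    rw [hbn, mul_one] at hn
    exact hn
  haveI : f.ker.Normal := inferInstance
  obtain ⟨hS, hc, hq⟩ := J2Unique.setting_of_normal (p zH) hz2 f.ker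
    (HallJankoPairs.extraspecial_congr (MulEquiv.ofBijective ι hι) hR)
    ((Nat.card_congr (MulEquiv.ofBijective ι hι).toEquiv).symm.trans hR32) h2c
    (QuotientGroup.quotientKerEquivOfSurjective f hfs)
  refine ⟨_, hS, hc, hq, ?_, ?_⟩
  · obtain ⟨x, hx, hxb, -, hxx, hx1, hxz⟩ := exists_rw h P 0
    obtain ⟨g, hgb, hg⟩ := exists_conj h P hx hxb hxx hx1 hxz
    have hxH : x ∈ (Subgroup.centralizer ({b} : Set G)) := Subgroup.mem_centralizer_singleton_iff.2 hxb.symm.eq
    refine ⟨p ⟨x, hxH⟩, ⟨(ι ⟨x, hx, hxH⟩ : Cb), (ι ⟨x, hx, hxH⟩).2, rfl⟩, fun e => ?_, ?_⟩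
    · have := hmove (a := 1) (s := ⟨x, hxH⟩) (by rw [one_mul, inv_one, mul_one, e]) hxx
      rw [show ((1 : (Subgroup.centralizer ({b} : Set G))) : G) = 1 from rfl, one_mul, inv_one, mul_one] at this
      exact hxz this.symm
    · exact isConj_iff.2 ⟨p ⟨g, Subgroup.mem_centralizer_singleton_iff.2 hgb.eq⟩, by
        rw [← map_inv, ← map_mul, ← map_mul]; exact congrArg p (Subtype.ext hg)⟩
  · obtain ⟨t, htb, htt, ht1, htz⟩ := exists_involution h P
    have htH : (t : G) ∈ (Subgroup.centralizer ({b} : Set G)) := Subgroup.mem_centralizer_singleton_iff.2 htb.eq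
    refine ⟨p ⟨t, htH⟩, p zH, HallJankoPairs.ord_of ?_ fun e => ?_, hz2, fun e => ?_⟩
    · rw [← map_mul, show (⟨(t : G), htH⟩ : (Subgroup.centralizer ({b} : Set G))) * ⟨t, htH⟩ = 1 from Subtype.ext htt, map_one]
    · obtain ⟨n, hn⟩ := zpow_cases P ((hker _).1 e)
      change (t : G) = b ^ n at hn
      exact ht1 (hn.trans (pow_sq P (by rw [← hn]; exact htt)))
    · obtain ⟨y, hy⟩ := isConj_iff.1 e.symm
      obtain ⟨a, rfl⟩ := hp y
      have := hmove (a := a) (s := ⟨t, htH⟩) (by rw [map_mul, map_mul, map_inv, hy]) htt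
      exact htz (isConj_iff.2 ⟨(a : G), this⟩)

end Cfsg.Agent.Spor.CoT.Five
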